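import Cfsg.Agent.Lib.LargeFischer.FourCent.Cent

/-!
# The centraliser of a four-group modulo it satisfies the hypotheses for `U₆(2)`; the four-group is in the
derived group
-/

set_option autoImplicit false
set_option linter.unusedSectionVars false
set_option linter.style.haveILetI false

namespace CfsgLib.LargeFischer.Thompson

open Subgroup QuadraticMap
open CfsgLib.Schur.Tails.UFour (H4)
open CfsgLib.ThreeTransp (link)
open CfsgLib.U6Central (Linked)
open scoped commutatorElement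

variable {G : Type*} [Group G] [Finite G] {z : G}
  {Q : Subgroup (centralizer ({z} : Set G))} [Q.Normal] {V : Type*} [AddCommGroup V] [Module (ZMod 2) V]
  [DistribMulAction ((centralizer ({z} : Set G)) ⧸ Q) V] [Finite V] {q : QuadraticForm (ZMod 2) V} {π : ↥Q → V}
  {n : (centralizer ({z} : Set G)) ⧸ Q} {M : Subgroup ((centralizer ({z} : Set G)) ⧸ Q)} {φ : ↥M →* ↥H4}
  {s : V} {E : Subgroup ((centralizer ({z} : Set G)) ⧸ Q)} {D : AddSubgroup V}
  {A : Subgroup G} {Ab : Subgroup ((centralizer ({z} : Set G)) ⧸ Q)}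
  {T : Fin 6 → V} {f : P24 → G}

namespace Frame

variable (c : Ctx Q q π n M φ s E D A Ab) (F : Frame π n Ab s A T f)
include c F

/-- An element commuting with a pair off the triangle: a member commuting with `z` linked to its image. -/
theorem pair_linked {a b : P24} (ha : Off a) (hb : Off b) (hab : a ≠ b) {g : G} (hg : g ∈ triC f)
    (hgw : g * (f a * f b) = f a * f b * g) :
    ∃ d : P24, Off d ∧ g * tau f d * g⁻¹ * tau f d = tau f d * (g * tau f d * g⁻¹) := by
  classical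
  obtain ⟨m, hm, hme⟩ := F.move c (k := 5) (by norm_num) ![(0, 1), (0, 2), (0, 3), a, b]
    ![(0, 1), (0, 2), (1, 0), (0, 0), (0, 3)] (by
      intro i j hij
      fin_cases i <;> fin_cases j <;>
        simp_all [Off, Ne.symm hab]) (by decide)
  obtain ⟨σ, -, heq, -⟩ := F.exists_action c
  set S := σ ⟨m, hm⟩
  have hS : ∀ x y, m * (f x * f y) * m⁻¹ = f (S x) * f (S y) := heq ⟨m, hm⟩
  have e12 : m * (f (0, 1) * f (0, 2)) * m⁻¹ = f (0, 1) * f (0, 2) := hme 0 1
  have e23 : m * (f (0, 2) * f (0, 3)) * m⁻¹ = f (0, 2) * f (1, 0) := hme 1 2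
  have eab : m * (f a * f b) * m⁻¹ = f (0, 0) * f (0, 3) := hme 3 4
  set g' := m * g * m⁻¹
  have hcj : ∀ x, g * x = x * g → g' * (m * x * m⁻¹) = m * x * m⁻¹ * g' := fun x hx => by
    calc g' * (m * x * m⁻¹) = m * (g * x) * m⁻¹ := by simp only [g']; group
      _ = _ := by rw [hx]; simp only [g']; group
  obtain ⟨hg1, hg2⟩ := (F.mem_triC c).1 hg
  have h1 : g' * (f (0, 1) * f (0, 2)) = f (0, 1) * f (0, 2) * g' := e12 ▸ hcj _ hg1
  have h2 : g' * (f (0, 2) * f (1, 0)) = f (0, 2) * f (1, 0) * g' := e23 ▸ hcj _ hg2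
  have h3 : g' * (f (0, 0) * f (0, 3)) = f (0, 0) * f (0, 3) * g' := eab ▸ hcj _ hgw
  have hz : g' ∈ centralizer ({z} : Set G) := by
    have e : z = f (0, 0) * f (0, 3) * (f (0, 1) * f (0, 2)) := by
      rw [← F.cell 0, mul_assoc (f (0, 0)), mul_assoc (f (0, 0)) (f (0, 3)),
        c.comm (F.mem (0, 3)) (mul_mem (F.mem (0, 1)) (F.mem (0, 2)))]
      simp only [mul_assoc]
    rw [mem_centralizer_singleton_iff, e]
    exact ((show Commute g' _ from h3).mul_right h1).eq
  -- the member in `Q`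
  obtain ⟨u₀, hu₀, h00, hl₀⟩ := F.inner_pi 0 1 2 (by decide)
  obtain ⟨u₁, hu₁, h10, hl₁⟩ := F.inner_pi 1 0 1 (by decide)
  obtain ⟨hk, hk1, hT0, hT1⟩ := F.outer_im (0, 2) (1, 0) (by decide)
  set δ := u₀ * u₁
  have hδ : val δ = f (0, 1) * f (0, 2) * (f (1, 0) * f (1, 1)) := by
    show val u₀ * val u₁ = _
    rw [hu₀, hu₁]
  have hδr : π δ ∈ (rg (imK Q (f (0, 2) * f (1, 0))) : AddSubgroup V) := by
    rw [c.mdl.pi_mul]
    exact add_mem (c.oth.ln_subset (fun _ => c.oth.rg_n hk) hT0 hl₀) (c.oth.ln_subset (fun _ => c.oth.rg_n hk) hT1 hl₁)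
  obtain ⟨δ', hδ', -⟩ := c.pi_conj ⟨g', hz⟩ δ
  replace hδ' : val δ' = g' * val δ * g'⁻¹ := hδ'
  have hfix : imK Q (f (0, 2) * f (1, 0)) • π δ' = π δ' := by
    have hA : f (0, 2) * f (1, 0) ∈ A := mul_mem (F.mem _) (F.mem _)
    rw [imK_eq (c.le hA)]
    refine c.mdl.fixed_of_comm c.hF (c := ⟨_, c.le hA⟩) (u := δ') (Subtype.ext ?_)
    show f (0, 2) * f (1, 0) * val δ' = val δ' * (f (0, 2) * f (1, 0))
    have hδA : val δ ∈ A := hδ ▸ mul_mem (mul_mem (F.mem _) (F.mem _)) (mul_mem (F.mem _) (F.mem _))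
    rw [hδ']
    calc f (0, 2) * f (1, 0) * (g' * val δ * g'⁻¹) = g' * (f (0, 2) * f (1, 0) * val δ) * g'⁻¹ := by
          rw [← mul_assoc g', h2]; group
      _ = g' * (val δ * (f (0, 2) * f (1, 0))) * g'⁻¹ := by rw [c.comm hA hδA]
      _ = g' * val δ * g'⁻¹ * (g' * (f (0, 2) * f (1, 0)) * g'⁻¹) := by group
      _ = _ := by rw [h2, mul_inv_cancel_right]
  have hperp : polar q (π δ') (π δ) = 0 := by
    obtain ⟨y, hy⟩ := mem_rg.1 hδr
    rw [← hy, ← c.oth.symm hk, hfix, vadd_self, polar_zero_left]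
  have hcomm : val δ' * val δ = val δ * val δ' := (c.mdl.polar_iff δ' δ).1 hperp
  obtain ⟨d, hd⟩ : ∃ d, S d = (1, 1) := ⟨S.symm (1, 1), S.apply_symm_apply _⟩
  have hpts : ∀ i : Fin 5, S (![(0, 1), (0, 2), (0, 3), a, b] i) = ![(0, 1), (0, 2), (1, 0), (0, 0), (0, 3)] i := by
    have hne : Function.Injective (![(0, 1), (0, 2), (0, 3), a, b] : Fin 5 → P24) := by
      intro i j hij
      fin_cases i <;> fin_cases j <;>
        simp_all [Off, Ne.symm hab]
    have hne' : Function.Injective (![(0, 1), (0, 2), (1, 0), (0, 0), (0, 3)] : Fin 5 → P24) := by decide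
    intro i
    obtain ⟨j, k, hij, hik, hjk⟩ := (by decide : ∀ i : Fin 5, ∃ j k, i ≠ j ∧ i ≠ k ∧ j ≠ k) i
    have key : ∀ i j, i ≠ j → (S (![(0, 1), (0, 2), (0, 3), a, b] i) = ![(0, 1), (0, 2), (1, 0), (0, 0), (0, 3)] i ∧
        S (![(0, 1), (0, 2), (0, 3), a, b] j) = ![(0, 1), (0, 2), (1, 0), (0, 0), (0, 3)] j) ∨
        (S (![(0, 1), (0, 2), (0, 3), a, b] i) = ![(0, 1), (0, 2), (1, 0), (0, 0), (0, 3)] j ∧
        S (![(0, 1), (0, 2), (0, 3), a, b] j) = ![(0, 1), (0, 2), (1, 0), (0, 0), (0, 3)] i) := by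
      intro i j h
      rcases F.uniq c (fun e => h (hne (S.injective e))) (fun e => h (hne' e)) ((hS _ _).symm.trans (hme i j)) with
        ⟨x, y⟩ | ⟨x, y⟩
      · exact .inl ⟨x.symm, y.symm⟩
      · exact .inr ⟨y.symm, x.symm⟩
    rcases key i j hij with ⟨x, -⟩ | ⟨x, -⟩
    · exact x
    · rcases key i k hik with ⟨y, -⟩ | ⟨y, -⟩
      · exact y
      · exact absurd (hne' (x.symm.trans y)) hjk
  have hdoff : Off d := by
    refine ⟨?_, ?_, ?_⟩ <;> rintro rfl
    · exact absurd (hd.symm.trans (hpts 0)) (by decide)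
    · exact absurd (hd.symm.trans (hpts 1)) (by decide)
    · exact absurd (hd.symm.trans (hpts 2)) (by decide)
  have hτ : m * tau f d * m⁻¹ = val δ := by
    rw [hδ, tau, mul_assoc _ (f (0, 3)) (f d),
      show m * (f (0, 1) * f (0, 2) * (f (0, 3) * f d)) * m⁻¹ =
        m * (f (0, 1) * f (0, 2)) * m⁻¹ * (m * (f (0, 3) * f d) * m⁻¹) by group, e12, hS (0, 3) d, hd]
    rw [show S (0, 3) = (1, 0) from hpts 2]
  refine ⟨d, hdoff, ?_⟩
  have e : tau f d = m⁻¹ * val δ * m := by rw [← hτ]; group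
  rw [e]
  calc g * (m⁻¹ * val δ * m) * g⁻¹ * (m⁻¹ * val δ * m) = m⁻¹ * (val δ' * val δ) * m := by
        rw [hδ']; simp only [g']; group
    _ = _ := by rw [hcomm, hδ']; simp only [g']; group

/-- The four-group lies in the derived group of its centraliser. -/
theorem tri_le_commutator : tri f ≤ (commutator ↥(triC f)).map (triC f).subtype := by
  classical
  -- differences of two points off the triangle are commutators
  have hdiff : ∀ d d' : P24, Off d → Off d' → d ≠ d' →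
      f d * f d' ∈ (commutator ↥(triC f)).map (triC f).subtype := by
    intro d d' hd hd' hne
    obtain ⟨e, he⟩ : ∃ e : P24, e ∉ ({(0, 1), (0, 2), (0, 3), d, d'} : Finset P24) := by
      obtain ⟨e, -, he⟩ := Finset.exists_mem_notMem_of_card_lt_card (s := ({(0, 1), (0, 2), (0, 3), d, d'} : Finset P24))
        (t := Finset.univ) (lt_of_le_of_lt Finset.card_le_five (by simp))
      exact ⟨e, he⟩
    simp only [Finset.mem_insert, Finset.mem_singleton, not_or] at he
    obtain ⟨he1, he2, he3, hed, hed'⟩ := he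
    obtain ⟨m, hm, hme⟩ := F.move c (k := 5) (by norm_num) ![(0, 1), (0, 2), (0, 3), e, d]
      ![(0, 1), (0, 2), (0, 3), e, d'] (by
        intro i j hij
        fin_cases i <;> fin_cases j <;>
          simp_all [Off]) (by
        intro i j hij
        fin_cases i <;> fin_cases j <;>
          simp_all [Off])
    have h1 : m ∈ triC f := (F.mem_triC c).2 ⟨mul_inv_eq_iff_eq_mul.1 (hme 0 1), mul_inv_eq_iff_eq_mul.1 (hme 1 2)⟩
    have h2 : m * (f e * f d) * m⁻¹ = f e * f d' := hme 3 4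
    have hmem : f e * f d ∈ triC f := F.A_le_triC c (mul_mem (F.mem _) (F.mem _))
    refine ⟨⁅(⟨m, h1⟩ : ↥(triC f)), ⟨_, hmem⟩⁆, Subgroup.commutator_mem_commutator (mem_top _) (mem_top _), ?_⟩
    show m * (f e * f d) * m⁻¹ * (f e * f d)⁻¹ = f d * f d'
    rw [h2, c.inv (mul_mem (F.mem e) (F.mem d))]
    calc f e * f d' * (f e * f d) = f d' * f e * (f e * f d) := by rw [F.commute c e d']
      _ = f d' * (f e * f e) * f d := by simp only [mul_assoc]
      _ = f d * f d' := by rw [F.sq c, mul_one, F.commute c]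
  -- the product of two points of the triangle through another tetrad
  have hkey : ∀ a b a' : P24, ¬ Off a → ¬ Off b → ¬ Off a' → a ≠ b → a ≠ a' → b ≠ a' →
      (∀ x, ¬ Off x → x = a ∨ x = b ∨ x = a') →
      f a * f b ∈ (commutator ↥(triC f)).map (triC f).subtype := by
    intro a b a' ha hb ha' hab haa hba hall
    have off1 : ∀ i : Fin 4, Off ((1 : Fin 6), i) := fun i => by
      refine ⟨?_, ?_, ?_⟩ <;> intro h <;> exact absurd (congrArg Prod.fst h) (by simp)
    have hne : ∀ x : P24, ¬ Off x → ∀ i : Fin 4, x ≠ ((1 : Fin 6), i) := fun x hx i h => hx (h ▸ off1 i)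
    have h10 : ((1 : Fin 6), (0 : Fin 4)) ≠ (1, 1) := by decide
    obtain ⟨b₁, d₁, e₁, hnd₁, hdis₁, he₁⟩ := F.tetrad_move c (a := a) (b := b) (d := (1, 0)) (e := (1, 1)) (p := a')
      (by simp [haa.symm, hba.symm, hne a' ha', hab, hne a ha, hne b hb, h10])
    obtain ⟨p, hp⟩ : ∃ p : P24, p ∉ [a, b, (1, 0), (1, 1), a', b₁, d₁, e₁].toFinset := by
      obtain ⟨p, -, hp⟩ := Finset.exists_mem_notMem_of_card_lt_card
        (s := [a, b, (1, 0), (1, 1), a', b₁, d₁, e₁].toFinset) (t := Finset.univ)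
        (lt_of_le_of_lt (List.toFinset_card_le _) (by simp))
      exact ⟨p, hp⟩
    simp only [List.mem_toFinset, List.mem_cons, List.not_mem_nil, or_false, not_or] at hp
    obtain ⟨hpa, hpb, hp10, hp11, hpa', hpb₁, hpd₁, hpe₁⟩ := hp
    obtain ⟨b₂, d₂, e₂, hnd₂, hdis₂, he₂⟩ := F.tetrad_move c (a := a) (b := b) (d := (1, 0)) (e := (1, 1)) (p := p)
      (by simp [hpa, hpb, hp10, hp11, hab, hne a ha, hne b hb, h10])
    have hna' : a' ∉ [p, b₂, d₂, e₂] := by
      intro hmem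
      -- two tetrads with one product and a common point agree
      by_cases heq : [p, b₂, d₂, e₂].toFinset = [a', b₁, d₁, e₁].toFinset
      · have := (Finset.ext_iff.1 heq p).1 (by simp)
        simp [hpa', hpb₁, hpd₁, hpe₁] at this
      obtain ⟨x, y, w, hxyw, hnd'⟩ : ∃ x y w, f p * f b₂ * f d₂ * f e₂ = f a' * (f x * f y * f w) ∧
          [x, y, w].Nodup ∧ [p, b₂, d₂, e₂].toFinset = insert a' [x, y, w].toFinset := by
        simp only [List.nodup_cons, List.mem_cons, List.not_mem_nil, or_false, not_or, List.nodup_nil, and_true,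
          not_false_eq_true] at hnd₂
        obtain ⟨⟨k1, k2, k3⟩, ⟨k4, k5⟩, k6⟩ := hnd₂
        simp only [List.mem_cons, List.not_mem_nil, or_false] at hmem
        rcases hmem with rfl | rfl | rfl | rfl
        · exact absurd rfl (Ne.symm hpa')
        · refine ⟨p, d₂, e₂, ?_, by simp [k2, k3, k6], by ext; simp; tauto⟩
          rw [F.commute c p a']; simp only [mul_assoc]
        · refine ⟨p, b₂, e₂, ?_, by simp [k1, k3, k5], by ext; simp; tauto⟩
          rw [c.comm (mul_mem (F.mem p) (F.mem b₂)) (F.mem a')]; simp only [mul_assoc]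
        · refine ⟨p, b₂, d₂, ?_, by simp [k1, k2, k4], by ext; simp; tauto⟩
          exact c.comm (mul_mem (mul_mem (F.mem p) (F.mem b₂)) (F.mem d₂)) (F.mem a')
      refine F.prod_ne c (S := [x, y, w]) (T' := [b₁, d₁, e₁]) hnd'.1 (List.nodup_cons.1 hnd₁).2 (by simp) (by simp)
        (fun e => heq ?_) ?_
      · rw [hnd'.2, e]; simp
      · have h : f a' * (f x * f y * f w) = f a' * (f b₁ * f d₁ * f e₁) := by
          rw [← hxyw, he₂, ← he₁]; simp only [mul_assoc]
        simpa [mul_assoc] using mul_left_cancel h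
    simp only [List.mem_cons, List.not_mem_nil, or_false, not_or] at hna'
    obtain ⟨ka, kb, kd, ke⟩ := hna'
    simp only [List.mem_cons, List.not_mem_nil, or_false, forall_eq_or_imp, forall_eq, not_or] at hdis₂
    obtain ⟨hp', hb', hd', he'⟩ := hdis₂
    have hoff : ∀ x, x ≠ a → x ≠ b → a' ≠ x → Off x := fun x h1 h2 h3 => by
      by_contra h
      rcases hall x h with e | e | e
      exacts [h1 e, h2 e, h3 e.symm]
    simp only [List.nodup_cons, List.mem_cons, List.not_mem_nil, or_false, not_or, List.nodup_nil, and_true,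
      not_false_eq_true] at hnd₂
    have hsum : f a * f b = f p * f b₂ * (f d₂ * f e₂) * (f (1, 0) * f (1, 1)) := by
      rw [show f p * f b₂ * (f d₂ * f e₂) = f p * f b₂ * f d₂ * f e₂ by simp only [mul_assoc], he₂,
        mul_assoc _ (f (1, 0)) (f (1, 1)), mul_assoc _ (f (1, 0) * f (1, 1)),
        c.sq (mul_mem (F.mem _) (F.mem _)), mul_one]
    rw [hsum]
    exact mul_mem (mul_mem (hdiff _ _ (hoff p hpa hpb ka) (hoff b₂ hb'.1 hb'.2.1 kb) hnd₂.1.1)
      (hdiff _ _ (hoff d₂ hd'.1 hd'.2.1 kd) (hoff e₂ he'.1 he'.2.1 ke) hnd₂.2.2))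
      (hdiff _ _ (off1 0) (off1 1) h10)
  rw [tri, closure_le]
  rintro x (rfl | rfl)
  · exact hkey _ _ (0, 3) (by simp [Off]) (by simp [Off]) (by simp [Off]) (by decide) (by decide) (by decide)
      fun x hx => by
      simp only [Off, ne_eq, not_and_or, not_not] at hx
      tauto
  · exact hkey _ _ (0, 1) (by simp [Off]) (by simp [Off]) (by simp [Off]) (by decide) (by decide) (by decide)
      fun x hx => by
      simp only [Off, ne_eq, not_and_or, not_not] at hx
      tauto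

theorem dElt_facts : F.dElt c * F.dElt c = 1 ∧ F.dElt c ≠ 1 := by
  refine ⟨?_, fun h => ?_⟩
  · show tmk f _ * tmk f _ = 1
    rw [← map_mul, ← map_one (tmk f)]
    exact congrArg _ (Subtype.ext c.zz)
  · rw [dElt, QuotientGroup.mk'_apply, QuotientGroup.eq_one_iff, mem_subgroupOf] at h
    exact F.z_notMem c h

theorem tmk_commute {x y : ↥(triC f)} (h : (x : G) * y = y * x) : Commute (tmk f x) (tmk f y) := by
  show tmk f x * tmk f y = tmk f y * tmk f x
  rw [← map_mul, ← map_mul]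
  exact congrArg _ (Subtype.ext h)

theorem tau_mem_class {d : P24} (hd : Off d) :
    tmk f ⟨tau f d, F.A_le_triC c (F.tau_mem c d)⟩ ∈ conjugatesOf (F.dElt c) ∧
      Commute (F.dElt c) (tmk f ⟨tau f d, F.A_le_triC c (F.tau_mem c d)⟩) := by
  obtain ⟨g, hg, -, hge⟩ := F.tau_class c hd
  exact ⟨(F.mem_class c).2 ⟨⟨g, hg⟩, congrArg _ (Subtype.ext hge)⟩,
    F.tmk_commute c (c.comm c.z_mem (F.tau_mem c d))⟩

/-- Centralisers of the images of elements of `A`. -/
theorem cent_A {a : G} (ha : a ∈ A) (hat : a ∉ tri f) {g : TriQ f}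
    (hg : Commute g (tmk f ⟨a, F.A_le_triC c ha⟩)) : Linked (F.dElt c) (g * F.dElt c * g⁻¹) := by
  classical
  have hgd : g * F.dElt c * g⁻¹ ∈ conjugatesOf (F.dElt c) := isConj_iff.2 ⟨g, rfl⟩
  obtain ⟨y, rfl⟩ := QuotientGroup.mk'_surjective _ g
  rcases F.kinds c ha with h | ⟨d, hd, t, ht, e⟩ | ⟨p, r, hp, hr, hpr, t, ht, e⟩ | hall
  · exact absurd h hat
  · obtain ⟨h1, h2⟩ := F.tau_mem_class c hd
    have he : tmk f ⟨tau f d, F.A_le_triC c (F.tau_mem c d)⟩ = tmk f ⟨a, F.A_le_triC c ha⟩ :=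
      (F.tmk_eq c).2 ⟨t, ht, e⟩
    refine (Relation.ReflTransGen.single ⟨h1, h2⟩).tail ⟨hgd, ?_⟩
    have h3 := h2.symm.map (MulAut.conj (tmk f y)).toMonoidHom
    rw [he] at h3 ⊢
    have h4 : tmk f y * tmk f ⟨a, F.A_le_triC c ha⟩ * (tmk f y)⁻¹ = tmk f ⟨a, F.A_le_triC c ha⟩ :=
      mul_inv_eq_iff_eq_mul.2 hg.eq
    have h5 : Commute (tmk f y * tmk f ⟨a, F.A_le_triC c ha⟩ * (tmk f y)⁻¹) (tmk f y * F.dElt c * (tmk f y)⁻¹) := h3
    rw [h4] at h5
    exact h5
  · have hpA : f p * f r ∈ A := mul_mem (F.mem p) (F.mem r)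
    have he : tmk f ⟨f p * f r, F.A_le_triC c hpA⟩ = tmk f ⟨a, F.A_le_triC c ha⟩ := (F.tmk_eq c).2 ⟨t, ht, e⟩
    rw [← he] at hg
    have hg' : tmk f (y * ⟨f p * f r, F.A_le_triC c hpA⟩) = tmk f (⟨f p * f r, F.A_le_triC c hpA⟩ * y) := by
      rw [map_mul, map_mul]; exact hg.eq
    obtain ⟨u, hu, hue⟩ := (F.tmk_eq c).1 hg'
    replace hue : f p * f r * (y : G) = (y : G) * (f p * f r) * u := hue
    have hu1 : u = 1 := by
      by_contra hu1
      obtain ⟨p', r', hp', hr', hne', rfl⟩ : ∃ p' r', ¬ Off p' ∧ ¬ Off r' ∧ p' ≠ r' ∧ u = f p' * f r' := by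
        rcases (F.mem_tri c).1 hu with h | h | h | h
        · exact absurd h hu1
        · exact ⟨(0, 1), (0, 2), by simp [Off], by simp [Off], by decide, h⟩
        · exact ⟨(0, 2), (0, 3), by simp [Off], by simp [Off], by decide, h⟩
        · exact ⟨(0, 1), (0, 3), by simp [Off], by simp [Off], by decide, h⟩
      have h4 : IsConj z (f p * f r * f p' * f r') := F.tetrad_conj c (by
        simp only [List.nodup_cons, List.mem_cons, List.not_mem_nil, or_false, not_or, List.nodup_nil, and_true,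
          not_false_eq_true]
        exact ⟨⟨hpr, fun h => hp' (h ▸ hp), fun h => hr' (h ▸ hp)⟩, ⟨fun h => hp' (h ▸ hr), fun h => hr' (h ▸ hr)⟩, hne'⟩)
      -- the element is a conjugate of a pair
      refine F.not_isConj c hpr (h4.trans (isConj_iff.2 ⟨(y : G), ?_⟩))
      rw [mul_assoc (f p * f r), ← mul_assoc (y : G), ← hue, mul_inv_cancel_right]
    rw [hu1, mul_one] at hue
    obtain ⟨d, hd, hcomm⟩ := F.pair_linked c hp hr hpr y.2 hue.symm
    obtain ⟨h1, h2⟩ := F.tau_mem_class c hd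
    refine ((Relation.ReflTransGen.single ⟨h1, h2⟩).tail
      ⟨(h1 : IsConj _ _).trans (isConj_iff.2 ⟨tmk f y, rfl⟩), ?_⟩).tail ⟨hgd, h2.symm.map (MulAut.conj (tmk f y)).toMonoidHom⟩
    rw [← map_mul, ← map_inv, ← map_mul]
    exact (F.tmk_commute c hcomm).symm
  · have hg' : tmk f (y * ⟨a, F.A_le_triC c ha⟩) = tmk f (⟨a, F.A_le_triC c ha⟩ * y) := by
      rw [map_mul, map_mul]; exact hg.eq
    obtain ⟨u, hu, hue⟩ := (F.tmk_eq c).1 hg'
    replace hue : a * (y : G) = (y : G) * a * u := hue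
    have hN : (y : G) ∈ Subgroup.normalizer (A : Set G) := by
      refine F.norm_of_coset c ha hat hall y.2 ?_
      have : (y : G) * a * (y : G)⁻¹ = a * u := by
        have h1 : (y : G) * u = u * (y : G) := (mem_centralizer_iff.1 y.2 u hu).symm
        rw [mul_inv_eq_iff_eq_mul, mul_assoc, ← h1, ← mul_assoc, hue, mul_assoc _ u, c.sq (F.tri_le c hu), mul_one]
      rw [this]
      exact mul_mem ha (F.tri_le c hu)
    refine Relation.ReflTransGen.single ⟨hgd, ?_⟩
    rw [← map_inv, show F.dElt c = tmk f ⟨z, F.z_triC c⟩ from rfl, ← map_mul, ← map_mul]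
    exact F.tmk_commute c (c.comm c.z_mem (c.conj_mem hN c.z_mem))

end Frame

/-- The quotient satisfies the hypotheses for `U₆(2)`. -/
theorem Frame.exists_central (c : Ctx Q q π n M φ s E D A Ab) (F : Frame π n Ab s A T f) :
    Nonempty (CfsgLib.U6Central.Central (F.dElt c) F4) := by
  obtain ⟨v, cr, ρ, L⟩ := F.exists_loc c
  obtain ⟨p, hp⟩ := L.exists_pi c F
  refine ⟨⟨⟨card_F4', (F.dElt_facts c).1, (F.dElt_facts c).2, p, L.ker_two c F hp, fun x hx => L.pt c F hp hx,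
    L.lifts c F hp, fun x y hx hy h => L.comm_of_map c F hp hx hy h, fun x hx => L.mul_notMem c F hp hx,
    fun g hg h => L.faithful c F hp hg h⟩, fun w hw hw1 hwd g hg => ?_⟩⟩
  obtain ⟨y, rfl⟩ := QuotientGroup.mk'_surjective _ w
  have hy := L.commute_lift c F hwd
  have hy2 : (y : G) * (y : G) ∈ tri f := by
    rw [← map_mul, QuotientGroup.mk'_apply, QuotientGroup.eq_one_iff, mem_subgroupOf] at hw
    exact hw
  obtain ⟨h, hh, hA⟩ := L.into_A c F hy hy2
  set H : TriQ f := tmk f ⟨h, hh.1⟩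
  have hHd : Commute H (F.dElt c) := F.tmk_commute c (mem_centralizer_singleton_iff.1 hh.2)
  have hat : h * (y : G) * h⁻¹ ∉ tri f := fun ht => hw1 (by
    rw [QuotientGroup.mk'_apply, QuotientGroup.eq_one_iff, mem_subgroupOf]
    have e : (y : G) = h⁻¹ * (h * (y : G) * h⁻¹) * h⁻¹⁻¹ := by group
    rw [e, F.conj_tri c (inv_mem hh.1) ht]
    exact ht)
  have hc : Commute (H * g * H⁻¹) (tmk f ⟨h * (y : G) * h⁻¹, F.A_le_triC c hA⟩) := by
    rw [show (⟨h * (y : G) * h⁻¹, F.A_le_triC c hA⟩ : ↥(triC f)) = ⟨h, hh.1⟩ * y * (⟨h, hh.1⟩ : ↥(triC f))⁻¹ from rfl,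
      map_mul, map_mul, map_inv]
    exact hg.map (MulAut.conj H).toMonoidHom
  have h1 := Linked.conj_fix hHd.inv_left (F.cent_A c hA hat hc)
  have e : H⁻¹ * (H * g * H⁻¹ * F.dElt c * (H * g * H⁻¹)⁻¹) * H⁻¹⁻¹ = g * F.dElt c * g⁻¹ := by
    have hH : H⁻¹ * F.dElt c * H = F.dElt c := by rw [mul_assoc, ← hHd.eq, inv_mul_cancel_left]
    calc _ = g * (H⁻¹ * F.dElt c * H) * g⁻¹ := by group
      _ = _ := by rw [hH]
  rwa [e] at h1

end CfsgLib.LargeFischer.Thompson
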