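import Cfsg.Agent.Lib.LargeFischer.FourCent.Lines

/-!
# Centralisers of two tetrad-crossing pairs in `C(z)`
-/

set_option autoImplicit false
set_option linter.unusedSectionVars false
set_option linter.style.haveILetI false

namespace CfsgLib.LargeFischer.Thompson

open Subgroup QuadraticMap
open CfsgLib.Schur.Tails.UFour (H4)

variable {G : Type*} [Group G] [Finite G] {z : G}
  {Q : Subgroup (centralizer ({z} : Set G))} [Q.Normal] {V : Type*} [AddCommGroup V] [Module (ZMod 2) V]
  [DistribMulAction ((centralizer ({z} : Set G)) ⧸ Q) V] [Finite V] {q : QuadraticForm (ZMod 2) V} {π : ↥Q → V}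
  {n : (centralizer ({z} : Set G)) ⧸ Q} {M : Subgroup ((centralizer ({z} : Set G)) ⧸ Q)} {φ : ↥M →* ↥H4}
  {s : V} {E : Subgroup ((centralizer ({z} : Set G)) ⧸ Q)} {D : AddSubgroup V}
  {A : Subgroup G} {Ab : Subgroup ((centralizer ({z} : Set G)) ⧸ Q)}
  {T : Fin 6 → V} {f : P24 → G}

namespace Frame

variable (c : Ctx Q q π n M φ s E D A Ab) (F : Frame π n Ab s A T f)
include c F

theorem im_any {a b : P24} (h : a.1 ≠ b.1) : imK Q (f a * f b) = imK Q (f (a.1, 0) * f (b.1, 0)) := by
  obtain ⟨hk, hk1, h0, h1⟩ := F.outer_im a b h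
  exact F.im_uniq _ hk hk1 (a.1, 0) (b.1, 0) h h0 h1

/-- An element of `C(z)` commuting with pairs joining one index to two others normalises `A`. -/
theorem cell_cent {a b e : P24} (hab : a.1 ≠ b.1) (hae : a.1 ≠ e.1) (hbe : b.1 ≠ e.1) {g : G}
    (hg : g ∈ centralizer ({z} : Set G)) (h1 : g * (f a * f b) = f a * f b * g)
    (h2 : g * (f a * f e) = f a * f e * g) : g ∈ Subgroup.normalizer (A : Set G) := by
  classical
  set w : centralizer ({z} : Set G) := ⟨g, hg⟩
  refine (c.mem_N_iff (w := w)).2 ?_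
  set k := QuotientGroup.mk' Q w
  obtain ⟨hk1A, hk1, ha1, hb1⟩ := F.outer_im a b hab
  obtain ⟨hk2A, hk2, ha2, he2⟩ := F.outer_im a e hae
  set k₁ := imK Q (f a * f b)
  set k₂ := imK Q (f a * f e)
  have hcomm : ∀ p q : P24, g * (f p * f q) = f p * f q * g →
      k * imK Q (f p * f q) = imK Q (f p * f q) * k := by
    intro p q h
    rw [imK_eq (c.le (mul_mem (F.mem p) (F.mem q))), ← map_mul, ← map_mul]
    exact congrArg _ (Subtype.ext h)
  have hrgmove : ∀ k' : (centralizer ({z} : Set G)) ⧸ Q, k * k' = k' * k → ∀ x ∈ (rg k' : AddSubgroup V),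
      k • x ∈ (rg k' : AddSubgroup V) := by
    rintro k' hkk x ⟨y, rfl⟩
    refine ⟨k • y, ?_⟩
    show k' • k • y + k • y = k • (k' • y + y)
    rw [smul_add, ← mul_smul, ← mul_smul, hkk]
  -- the fixed space is spanned by the two commutator spaces
  have h16 : ∀ p q : P24, p.1 ≠ q.1 → Nat.card ↥(rg (imK Q (f p * f q)) : AddSubgroup V) = 16 := fun p q hpq =>
    (c.coset_struct (F.outer_im p q hpq).2.1 (a := f p * f q) ⟨F.pair _ _ (fun e => hpq (by rw [e])), rfl⟩).1
  set R := (rg k₁ : AddSubgroup V) ⊔ rg k₂ with hR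
  have hRle : R ≤ fixSub Ab := sup_le (c.oth.rg_le hk1A) (c.oth.rg_le hk2A)
  have hRn : ∀ x ∈ R, n • x ∈ R := by
    intro x hx
    obtain ⟨y, hy, w', hw', rfl⟩ := AddSubgroup.mem_sup.1 hx
    rw [smul_add]
    exact AddSubgroup.mem_sup.2 ⟨_, c.oth.rg_n hk1A hy, _, c.oth.rg_n hk2A hw', rfl⟩
  have hnot : T e.1 ∉ (rg k₁ : AddSubgroup V) := by
    intro h
    -- otherwise the two elements would agree
    have e1 : k₁ = k₂ := F.im_uniq _ hk1A hk1 a e hae ha1 h
    have e2 : k₁ = imK Q (f b * f e) := F.im_uniq _ hk1A hk1 b e hbe hb1 h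
    have hc : ∀ p q : P24, f p * f q ∈ centralizer ({z} : Set G) := fun p q => c.le (mul_mem (F.mem p) (F.mem q))
    have e3 : imK Q (f a * f e) = imK Q (f a * f b) * imK Q (f b * f e) := by
      rw [← imK_mul (hc _ _) (hc _ _), mul_assoc, ← mul_assoc (f b), F.sq c, one_mul]
    rw [← e2, show imK Q (f a * f e) = k₁ from e1.symm] at e3
    exact hk1 (left_eq_mul.1 e3)
  have h32 : ¬ Nat.card ↥R ≤ 32 := by
    intro hle
    -- the line of `T e` meets the first space trivially
    have hsub : (fun p : V × V => p.1 + p.2) '' (((rg k₁ : AddSubgroup V) : Set V) ×ˢ ln n (T e.1)) ⊆ (R : Set V) := by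
      rintro _ ⟨⟨y, w'⟩, ⟨hy, hw'⟩, rfl⟩
      exact add_mem (AddSubgroup.mem_sup_left hy) (c.oth.ln_subset hRn (AddSubgroup.mem_sup_right he2) hw')
    have hcard := Set.ncard_le_ncard hsub (Set.toFinite _)
    rw [Set.ncard_image_of_injOn, Set.ncard_prod, c.oth.ln_ncard (F.T_mem e.1).2.1, ← Nat.card_coe_set_eq,
      SetLike.coe_sort_coe, h16 a b hab, ← Nat.card_coe_set_eq, SetLike.coe_sort_coe] at hcard
    · omega
    rintro ⟨y, w'⟩ ⟨hy, hw'⟩ ⟨y', w''⟩ ⟨hy', hw''⟩ hyy
    replace hyy : y + w' = y' + w'' := hyy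
    have hww : w' + w'' ∈ (rg k₁ : AddSubgroup V) := by
      rw [show w' + w'' = y + y' by
        calc w' + w'' = (y + y) + w' + w'' := by rw [vadd_self, zero_add]
          _ = y + (y + w') + w'' := by abel
          _ = y + (y' + w'') + w'' := by rw [hyy]
          _ = y + y' + (w'' + w'') := by abel
          _ = y + y' := by rw [vadd_self, add_zero]]
      exact add_mem hy hy'
    have hwl := c.oth.ln_add hw' hw''
    by_cases h0 : w' + w'' = 0
    · have hw : w' = w'' := eq_of_vadd h0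
      subst hw
      rw [add_left_inj] at hyy
      rw [hyy]
    · exfalso
      refine hnot (c.oth.ln_subset (fun _ => c.oth.rg_n hk1A) hww ?_)
      rcases hwl with h | h | h | h
      · exact absurd h h0
      · rw [h]; exact Or.inr (Or.inl rfl)
      · rw [h]; exact Or.inr (Or.inr (Or.inr (c.mdl.core.smul_n_three _).symm))
      · rw [h]; exact Or.inr (Or.inr (Or.inl (c.mdl.core.smul_n_three _).symm))
  have hFeq : R = fixSub Ab := by
    refine AddSubgroup.eq_of_le_of_card_ge hRle ?_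
    have hd : Nat.card ↥R ∣ 64 := c.oth.facts.2.1 ▸ AddSubgroup.card_dvd_of_le hRle
    rw [c.oth.facts.2.1]
    obtain ⟨i, hi, e'⟩ := (Nat.dvd_prime_pow Nat.prime_two).1 (show Nat.card ↥R ∣ 2 ^ 6 from hd)
    by_contra hlt
    have : 2 ^ i ≤ 2 ^ 5 := Nat.pow_le_pow_right (by norm_num) (by
      by_contra h
      have : i = 6 := by omega
      rw [e', this] at hlt
      norm_num at hlt)
    rw [← e'] at this
    exact h32 this
  have hfixk : ∀ x ∈ (fixSub Ab : AddSubgroup V), k • x ∈ (fixSub Ab : AddSubgroup V) := by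
    intro x hx
    rw [← hFeq] at hx ⊢
    obtain ⟨y, hy, w', hw', rfl⟩ := AddSubgroup.mem_sup.1 hx
    rw [smul_add]
    exact AddSubgroup.mem_sup.2 ⟨_, hrgmove _ (hcomm a b h1) _ hy, _, hrgmove _ (hcomm a e h2) _ hw', rfl⟩
  -- a conjugate of an element of the quotient of `A` fixes the space and moves modulo it
  refine mem_normalizer_iff_map_conj_eq.2 (eq_of_le_of_card_ge ?_ (le_of_eq
    (card_map_of_injective (MulEquiv.injective _)).symm))
  rintro _ ⟨x, hx, rfl⟩
  show k * x * k⁻¹ ∈ Ab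
  have hinv : ∀ y ∈ (fixSub Ab : AddSubgroup V), k⁻¹ • y ∈ (fixSub Ab : AddSubgroup V) := by
    intro y hy
    have hinj : Function.Injective fun p : ↥(fixSub Ab : AddSubgroup V) =>
        (⟨k • (p : V), hfixk _ p.2⟩ : ↥(fixSub Ab : AddSubgroup V)) := fun p p' e =>
      Subtype.ext (MulAction.injective k (congrArg Subtype.val e))
    obtain ⟨p, hp⟩ := Finite.surjective_of_injective hinj ⟨y, hy⟩
    rw [show y = k • (p : V) from (congrArg Subtype.val hp).symm, inv_smul_smul]
    exact p.2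
  set y := k * x * k⁻¹ with hy
  have hyF : ∀ w' ∈ (fixSub Ab : AddSubgroup V), y • w' = w' := fun w' hw' => by
    rw [hy, mul_smul, mul_smul, show x • k⁻¹ • w' = k⁻¹ • w' from hinv w' hw' x hx, smul_inv_smul]
  have hyV : ∀ w' : V, y • w' + w' ∈ (fixSub Ab : AddSubgroup V) := fun w' => by
    rw [show y • w' + w' = k • (x • k⁻¹ • w' + k⁻¹ • w') by
      rw [smul_add, smul_inv_smul, hy, mul_smul, mul_smul]]
    exact hfixk _ (c.oth.quad x hx _)
  refine c.oth.eq_of_cent (fun a' ha' => ?_) hyF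
  refine (inv_mul_eq_one.1 (c.mdl.core.faithful ((y * a')⁻¹ * (a' * y)) fun w' => ?_)).trans rfl
  rw [mul_smul ((y * a')⁻¹) (a' * y), inv_smul_eq_iff, mul_smul a' y, mul_smul y a']
  have hcancel : ∀ u : V, u = w' + (u + w') := fun u => by
    rw [← add_assoc, add_comm w' u, add_assoc, vadd_self, add_zero]
  have e1 : y • a' • w' = y • w' + (a' • w' + w') := by
    conv_lhs => rw [hcancel (a' • w'), smul_add, hyF _ (c.oth.quad a' ha' w')]
  have e2 : a' • y • w' = a' • w' + (y • w' + w') := by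
    conv_lhs => rw [hcancel (y • w'), smul_add, show a' • (y • w' + w') = y • w' + w' from hyV w' a' ha']
  rw [e1, e2]
  abel

end Frame

end CfsgLib.LargeFischer.Thompson
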