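import Cfsg.Agent.Lib.LargeFischer.FourCent.Term
import Cfsg.Agent.Lib.LargeFischer.FourCent.Centres

/-!
# Centralisers of involutions keep the component of the image of `z`
-/

set_option autoImplicit false
set_option linter.unusedSectionVars false
set_option linter.style.haveILetI false

namespace CfsgLib.LargeFischer.Thompson

open Subgroup QuadraticMap
open CfsgLib.Schur.Tails.UFour (H4)
open CfsgLib.ThreeTransp (link)
open CfsgLib.U6Central (Linked)

variable {G : Type*} [Group G] [Finite G] {z : G}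
  {Q : Subgroup (centralizer ({z} : Set G))} [Q.Normal] {V : Type*} [AddCommGroup V] [Module (ZMod 2) V]
  [DistribMulAction ((centralizer ({z} : Set G)) ⧸ Q) V] [Finite V] {q : QuadraticForm (ZMod 2) V} {π : ↥Q → V}
  {n : (centralizer ({z} : Set G)) ⧸ Q} {M : Subgroup ((centralizer ({z} : Set G)) ⧸ Q)} {φ : ↥M →* ↥H4}
  {s : V} {E : Subgroup ((centralizer ({z} : Set G)) ⧸ Q)} {D : AddSubgroup V}
  {A : Subgroup G} {Ab : Subgroup ((centralizer ({z} : Set G)) ⧸ Q)}
  {T : Fin 6 → V} {f : P24 → G}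

/-- Linkedness is preserved by conjugation fixing the base. -/
theorem Linked.conj_fix {X : Type*} [Group X] {d a x : X} (ha : Commute a d) (h : Linked d x) :
    Linked d (a * x * a⁻¹) := by
  induction h with
  | refl =>
    rw [ha.eq, mul_inv_cancel_right]
    exact .refl
  | tail _ hbc ih =>
    exact ih.tail ⟨IsConj.trans hbc.1 (isConj_iff.2 ⟨a, rfl⟩), hbc.2.map (MulAut.conj a).toMonoidHom⟩

namespace Frame

variable (c : Ctx Q q π n M φ s E D A Ab) (F : Frame π n Ab s A T f)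
include c F

/-- A coset of `A` modulo the four-group without further members: an element of the centraliser mapping the coset
to itself normalises `A`. -/
theorem norm_of_coset {w : G} (hw : w ∈ A) (hwt : w ∉ tri f)
    (hall : ∀ t ∈ tri f, IsConj z (w * t)) {g : G} (hg : g ∈ triC f) (hgw : g * w * g⁻¹ ∈ A) :
    g ∈ Subgroup.normalizer (A : Set G) := by
  classical
  -- a tetrad with one point of the triangle
  obtain ⟨p, q₁, r, d, e, k, hp, hq, hr, hpq, hpr, hqr, hnd, hd, he, hk, hy⟩ : ∃ p q₁ r d e k : P24,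
      ¬ Off p ∧ ¬ Off q₁ ∧ ¬ Off r ∧ p ≠ q₁ ∧ p ≠ r ∧ q₁ ≠ r ∧ [p, d, e, k].Nodup ∧ Off d ∧ Off e ∧ Off k ∧
      ∃ t ∈ tri f, f p * f d * f e * f k = w * t := by
    obtain ⟨a, b, a', b', hnd, hwe⟩ : ∃ a b a' b', [a, b, a', b'].Nodup ∧ w = f a * f b * f a' * f b' := by
      rcases F.exhaust c hw with h | ⟨a, b, hab, h⟩ | h
      · exact absurd (h ▸ one_mem _) hwt
      · exact absurd (hall 1 (one_mem _)) (by rw [mul_one, h]; exact F.not_isConj c hab)
      · exact h
    have hnotpair : ∀ t ∈ tri f, ∀ x y : P24, w * t = f x * f y → x ≠ y → False := fun t ht x y h hne =>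
      F.not_isConj c hne (h ▸ hall t ht)
    have hoff : ∀ x : P24, ¬ Off x ↔ x = (0, 1) ∨ x = (0, 2) ∨ x = (0, 3) := fun x => by
      simp only [Off, ne_eq, not_and_or, not_not]
    have ht3 : ∀ x y : P24, ¬ Off x → ¬ Off y → f x * f y ∈ tri f := by
      intro x y hx hy
      rw [F.mem_tri c]
      rcases (hoff x).1 hx with rfl | rfl | rfl <;> rcases (hoff y).1 hy with rfl | rfl | rfl <;>
        simp [F.sq c, F.commute c (0, 2) (0, 1), F.commute c (0, 3) (0, 1), F.commute c (0, 3) (0, 2)]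
    -- no two points of the tetrad lie on the triangle
    have htwo : ∀ x y x' y' : P24, ¬ Off x → ¬ Off y → x' ≠ y' → w = f x * f y * f x' * f y' → False :=
      fun x y x' y' hx hy hne h => hnotpair _ (ht3 x y hx hy) x' y' (by
        rw [h, mul_assoc (f x * f y), c.comm (mul_mem (F.mem x) (F.mem y)) (mul_mem (F.mem x') (F.mem y')),
          mul_assoc, c.sq (mul_mem (F.mem x) (F.mem y)), mul_one]) hne
    have cm := F.commute c
    have hperm : ∀ x y x' y' : P24, f x * f y * f x' * f y' = f x' * f y * f x * f y' := fun x y x' y' => by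
      rw [mul_assoc (f x), cm y x', ← mul_assoc, cm x x', mul_assoc (f x'), cm x y, ← mul_assoc]
    -- some tetrad with exactly one point on the triangle
    have one : ∀ x y x' y' : P24, [x, y, x', y'].Nodup → ¬ Off x → w = f x * f y * f x' * f y' →
        ∃ q₁ r, ¬ Off q₁ ∧ ¬ Off r ∧ x ≠ q₁ ∧ x ≠ r ∧ q₁ ≠ r ∧ Off y ∧ Off x' ∧ Off y' := by
      intro x y x' y' hnd hx h
      simp only [List.nodup_cons, List.mem_cons, List.not_mem_nil, or_false, not_or, List.nodup_nil, and_true,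
        not_false_eq_true] at hnd
      obtain ⟨⟨h1, h2, h3⟩, ⟨h4, h5⟩, h6⟩ := hnd
      have hy : Off y := by_contra fun hy => htwo x y x' y' hx hy h6 h
      have hx' : Off x' := by_contra fun hx' => htwo x' x y y' hx' hx h5 (by
        rw [h, mul_assoc (f x), cm y x', ← mul_assoc, cm x x'])
      have hy' : Off y' := by_contra fun hy' => htwo y' x y x' hy' hx h4 (by
        rw [h, cm y' x, mul_assoc (f x * f y), cm x' y', ← mul_assoc, mul_assoc (f x), cm y y', ← mul_assoc])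
      rcases (hoff x).1 hx with rfl | rfl | rfl
      · exact ⟨(0, 2), (0, 3), by simp [Off], by simp [Off], by decide, by decide, by decide, hy, hx', hy'⟩
      · exact ⟨(0, 1), (0, 3), by simp [Off], by simp [Off], by decide, by decide, by decide, hy, hx', hy'⟩
      · exact ⟨(0, 1), (0, 2), by simp [Off], by simp [Off], by decide, by decide, by decide, hy, hx', hy'⟩
    have perm4 : ∀ {x y x' y' : P24}, [x, y, x', y'].Nodup → [x', y, x, y'].Nodup := fun {x y x' y'} h => by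
      simp only [List.nodup_cons, List.mem_cons, List.not_mem_nil, or_false, not_or, List.nodup_nil, and_true,
        not_false_eq_true] at h ⊢
      obtain ⟨⟨h1, h2, h3⟩, ⟨h4, h5⟩, h6⟩ := h
      exact ⟨⟨(Ne.symm h4), (Ne.symm h2), h6⟩, ⟨(Ne.symm h1), h5⟩, h3⟩
    obtain ⟨x, y, x', y', hnd', hx, he⟩ : ∃ x y x' y', [x, y, x', y'].Nodup ∧ ¬ Off x ∧ w = f x * f y * f x' * f y' := by
      by_cases h1 : ¬ Off a
      · exact ⟨a, b, a', b', hnd, h1, hwe⟩
      by_cases h2 : ¬ Off a'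
      · exact ⟨a', b, a, b', perm4 hnd, h2, hwe.trans (hperm _ _ _ _)⟩
      by_cases h3 : ¬ Off b
      · refine ⟨b, a, a', b', ?_, h3, by rw [hwe, cm a b]⟩
        simp only [List.nodup_cons, List.mem_cons, List.not_mem_nil, or_false, not_or, List.nodup_nil, and_true,
          not_false_eq_true] at hnd ⊢
        obtain ⟨⟨k1, k2, k3⟩, ⟨k4, k5⟩, k6⟩ := hnd
        exact ⟨⟨(Ne.symm k1), k4, k5⟩, ⟨k2, k3⟩, k6⟩
      by_cases h4 : ¬ Off b'
      · refine ⟨b', a, b, a', ?_, h4, ?_⟩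
        · simp only [List.nodup_cons, List.mem_cons, List.not_mem_nil, or_false, not_or, List.nodup_nil, and_true,
            not_false_eq_true] at hnd ⊢
          obtain ⟨⟨k1, k2, k3⟩, ⟨k4, k5⟩, k6⟩ := hnd
          exact ⟨⟨(Ne.symm k3), (Ne.symm k5), (Ne.symm k6)⟩, ⟨k1, k2⟩, k4⟩
        · rw [hwe, c.comm (mul_mem (mul_mem (F.mem a) (F.mem b)) (F.mem a')) (F.mem b')]
          simp only [mul_assoc]
      simp only [not_not] at h1 h2 h3 h4
      obtain ⟨b₂, d₂, e₂, hnd₂, -, he₂⟩ := F.tetrad_move c (a := a) (b := b) (d := a') (e := b') (p := (0, 1)) (by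
        simp only [List.nodup_cons, List.mem_cons, List.not_mem_nil, or_false, not_or, List.nodup_nil, and_true,
          not_false_eq_true] at hnd ⊢
        exact ⟨⟨h1.1.symm, h3.1.symm, h2.1.symm, h4.1.symm⟩, hnd⟩)
      exact ⟨(0, 1), b₂, d₂, e₂, hnd₂, by simp [Off], hwe.trans he₂.symm⟩
    obtain ⟨q₁, r, hq, hr, hxq, hxr, hqr, hy, hx', hy'⟩ := one x y x' y' hnd' hx he
    exact ⟨x, q₁, r, y, x', y', hx, hq, hr, hxq, hxr, hqr, hnd', hy, hx', hy', 1, one_mem _, by rw [mul_one]; exact he.symm⟩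
  obtain ⟨t₀, ht₀, hy⟩ := hy
  simp only [List.nodup_cons, List.mem_cons, List.not_mem_nil, or_false, not_or, List.nodup_nil, and_true,
    not_false_eq_true] at hnd
  obtain ⟨⟨hpd, hpe, hpk⟩, ⟨hde, hdk⟩, hek⟩ := hnd
  set y := f p * f d * f e * f k
  have hyA : y ∈ A := mul_mem (mul_mem (mul_mem (F.mem p) (F.mem d)) (F.mem e)) (F.mem k)
  -- normalise the tetrad to that of `z`
  obtain ⟨m, hm, hme⟩ := F.move c (k := 4) (by norm_num) ![p, d, e, k] ![(0, 0), (0, 1), (0, 2), (0, 3)]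
    (by intro i j hij; fin_cases i <;> fin_cases j <;> simp_all [(Ne.symm hpd), (Ne.symm hpe), (Ne.symm hpk), (Ne.symm hde), (Ne.symm hdk), (Ne.symm hek)])
    (by decide)
  obtain ⟨σ, -, heq, -⟩ := F.exists_action c
  set S := σ ⟨m, hm⟩
  have hS : ∀ x y, m * (f x * f y) * m⁻¹ = f (S x) * f (S y) := heq ⟨m, hm⟩
  have hmy : m * y * m⁻¹ = z := by
    have e1 : m * (f p * f d) * m⁻¹ = f (0, 0) * f (0, 1) := hme 0 1
    have e2 : m * (f e * f k) * m⁻¹ = f (0, 2) * f (0, 3) := hme 2 3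
    rw [← F.cell 0, show y = f p * f d * (f e * f k) from by simp only [y, mul_assoc],
      show m * (f p * f d * (f e * f k)) * m⁻¹ = m * (f p * f d) * m⁻¹ * (m * (f e * f k) * m⁻¹) by group, e1, e2]
    simp only [mul_assoc]
  -- the images of the other two points of the triangle lie in different rows
  have hpair : ∀ u v : P24, u ≠ v → ∀ u' v' : P24, u' ≠ v' → m * (f u * f v) * m⁻¹ = f u' * f v' →
      (u' = S u ∧ v' = S v) ∨ (u' = S v ∧ v' = S u) := fun u v huv u' v' hu' h =>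
    F.uniq c (fun e => huv (S.injective e)) hu' ((hS u v).symm.trans h)
  have hSp : S p = (0, 0) := by
    rcases hpair p d hpd _ _ (by decide) (hme 0 1) with ⟨h1, -⟩ | ⟨h1, h2⟩
    · exact h1.symm
    · rcases hpair p e hpe _ _ (by decide) (hme 0 2) with ⟨h3, -⟩ | ⟨h3, -⟩
      · exact h3.symm
      · exact absurd (S.injective (h1.symm.trans h3)) hde
  have hSx : ∀ i : Fin 4, S (![p, d, e, k] i) = (0, i) := by
    intro i
    fin_cases i
    · exact hSp
    · rcases hpair p d hpd _ _ (by decide) (hme 0 1) with ⟨-, h2⟩ | ⟨-, h2⟩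
      · exact h2.symm
      · exact absurd (h2.trans hSp) (by decide)
    · rcases hpair p e hpe _ _ (by decide) (hme 0 2) with ⟨-, h2⟩ | ⟨-, h2⟩
      · exact h2.symm
      · exact absurd (h2.trans hSp) (by decide)
    · rcases hpair p k hpk _ _ (by decide) (hme 0 3) with ⟨-, h2⟩ | ⟨-, h2⟩
      · exact h2.symm
      · exact absurd (h2.trans hSp) (by decide)
  have hrow : ∀ u : P24, u ∉ [p, d, e, k] → (S u).1 ≠ 0 := by
    intro u hu h0
    obtain ⟨i, hi⟩ : ∃ i : Fin 4, S u = (0, i) := ⟨(S u).2, by rw [← h0]⟩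
    refine hu ?_
    rw [S.injective (hi.trans (hSx i).symm)]
    fin_cases i <;> simp
  have hoff : ∀ u : P24, ¬ Off u → u ≠ d ∧ u ≠ e ∧ u ≠ k := fun u hu =>
    ⟨fun h => hu (h ▸ hd), fun h => hu (h ▸ he), fun h => hu (h ▸ hk)⟩
  have hqn : q₁ ∉ [p, d, e, k] := by
    obtain ⟨k1, k2, k3⟩ := hoff q₁ hq
    simp [hpq.symm, k1, k2, k3]
  have hrn : r ∉ [p, d, e, k] := by
    obtain ⟨k1, k2, k3⟩ := hoff r hr
    simp [hpr.symm, k1, k2, k3]
  have hi0 : (S q₁).1 ≠ 0 := hrow q₁ hqn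
  have hj0 : (S r).1 ≠ 0 := hrow r hrn
  have ht : ∀ u v : P24, ¬ Off u → ¬ Off v → f u * f v ∈ tri f := by
    intro u v hu hv
    simp only [Off, ne_eq, not_and_or, not_not] at hu hv
    rw [F.mem_tri c]
    rcases hu with rfl | rfl | rfl <;> rcases hv with rfl | rfl | rfl <;>
      simp [F.sq c, F.commute c (0, 2) (0, 1), F.commute c (0, 3) (0, 1), F.commute c (0, 3) (0, 2)]
  have hij : (S q₁).1 ≠ (S r).1 := by
    intro heq'
    -- the coset would contain a pair
    obtain ⟨i, a, hqa⟩ : ∃ i a, S q₁ = (i, a) := ⟨_, _, rfl⟩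
    obtain ⟨b, hrb⟩ : ∃ b, S r = (i, b) := ⟨(S r).2, by rw [show i = (S r).1 by rw [← heq', hqa]]⟩
    have hab : a ≠ b := fun e => hqr (S.injective (by rw [hqa, hrb, e]))
    obtain ⟨a', b', hab', hcell⟩ : ∃ a' b' : Fin 4, a' ≠ b' ∧ z * (f (i, a) * f (i, b)) = f (i, a') * f (i, b') := by
      have cm := F.commute c
      have hc := F.cell i
      have s := F.sq c
      have hval : ∀ a b a' b' : Fin 4, f (i, a) * f (i, b) * (f (i, a') * f (i, b')) = z →
          z * (f (i, a) * f (i, b)) = f (i, a') * f (i, b') := fun a b a' b' h => by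
        rw [← h, c.comm (mul_mem (F.mem (i, a)) (F.mem (i, b))) (mul_mem (F.mem (i, a')) (F.mem (i, b'))),
          mul_assoc, c.sq (mul_mem (F.mem (i, a)) (F.mem (i, b))), mul_one]
      have z01 : f (i, 0) * f (i, 1) * (f (i, 2) * f (i, 3)) = z := by rw [← hc]; simp only [mul_assoc]
      have z02 : f (i, 0) * f (i, 2) * (f (i, 1) * f (i, 3)) = z := by
        rw [← hc, mul_assoc (f (i, 0)), ← mul_assoc (f (i, 2)), cm (i, 2) (i, 1)]; simp only [mul_assoc]
      have z03 : f (i, 0) * f (i, 3) * (f (i, 1) * f (i, 2)) = z := by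
        rw [← hc, mul_assoc (f (i, 0)), c.comm (F.mem (i, 3)) (mul_mem (F.mem (i, 1)) (F.mem (i, 2)))]
        simp only [mul_assoc]
      have sw : ∀ {a b a' b' : Fin 4}, f (i, a) * f (i, b) * (f (i, a') * f (i, b')) = z →
          f (i, a') * f (i, b') * (f (i, a) * f (i, b)) = z := fun h => by
        rw [← h]; exact c.comm (mul_mem (F.mem _) (F.mem _)) (mul_mem (F.mem _) (F.mem _))
      fin_cases a <;> fin_cases b <;> first
        | exact absurd rfl hab
        | exact ⟨2, 3, by decide, hval _ _ _ _ z01⟩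
        | exact ⟨1, 3, by decide, hval _ _ _ _ z02⟩
        | exact ⟨1, 2, by decide, hval _ _ _ _ z03⟩
        | exact ⟨0, 3, by decide, hval _ _ _ _ (sw z03)⟩
        | exact ⟨0, 2, by decide, hval _ _ _ _ (sw z02)⟩
        | exact ⟨0, 1, by decide, hval _ _ _ _ (sw z01)⟩
        | exact ⟨2, 3, by decide, by rw [cm]; exact hval _ _ _ _ z01⟩
        | exact ⟨1, 3, by decide, by rw [cm]; exact hval _ _ _ _ z02⟩
        | exact ⟨1, 2, by decide, by rw [cm]; exact hval _ _ _ _ z03⟩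
        | exact ⟨0, 3, by decide, by rw [cm]; exact hval _ _ _ _ (sw z03)⟩
        | exact ⟨0, 2, by decide, by rw [cm]; exact hval _ _ _ _ (sw z02)⟩
        | exact ⟨0, 1, by decide, by rw [cm]; exact hval _ _ _ _ (sw z01)⟩
    refine F.not_isConj c (a := (i, a')) (b := (i, b')) (by simp [hab']) ?_
    have h1 : IsConj z (w * (t₀ * (f q₁ * f r))) := hall _ (mul_mem ht₀ (ht _ _ hq hr))
    rw [← mul_assoc, ← hy] at h1
    have h2 := h1.trans (isConj_iff.2 ⟨m, rfl⟩)
    rwa [show m * (y * (f q₁ * f r)) * m⁻¹ = m * y * m⁻¹ * (m * (f q₁ * f r) * m⁻¹) by group, hmy, hS, hqa, hrb,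
      hcell] at h2
  have hcomm : ∀ g' : G, g' ∈ triC f → g' * y = y * g' → g' ∈ Subgroup.normalizer (A : Set G) := by
    intro g' hg' hgy
    have h1 : m * g' * m⁻¹ ∈ centralizer ({z} : Set G) := by
      rw [mem_centralizer_singleton_iff, ← hmy]
      calc m * g' * m⁻¹ * (m * y * m⁻¹) = m * (g' * y) * m⁻¹ := by group
        _ = _ := by rw [hgy]; group
    have h2 : ∀ u, ¬ Off u → m * g' * m⁻¹ * (f (S p) * f (S u)) = f (S p) * f (S u) * (m * g' * m⁻¹) := by
      intro u hu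
      rw [← hS]
      calc m * g' * m⁻¹ * (m * (f p * f u) * m⁻¹) = m * (g' * (f p * f u)) * m⁻¹ := by group
        _ = m * (f p * f u * g') * m⁻¹ := by rw [(mem_centralizer_iff.1 hg' _ (ht _ _ hp hu)).symm]
        _ = _ := by group
    have h3 := F.cell_cent c (a := S p) (b := S q₁) (e := S r) (by rw [hSp]; exact hi0.symm)
      (by rw [hSp]; exact hj0.symm) hij h1 (h2 _ hq) (h2 _ hr)
    have := mul_mem (mul_mem (inv_mem hm) h3) hm
    rwa [show m⁻¹ * (m * g' * m⁻¹) * m = g' by group] at this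
  -- the two conjugates of `A` lie in the centraliser of the tetrad
  set C := triC f ⊓ centralizer ({y} : Set G)
  have hAC : A ≤ C := le_inf (F.A_le_triC c) fun a ha => mem_centralizer_singleton_iff.2 (c.comm ha hyA)
  set A' := A.map (MulAut.conj g⁻¹).toMonoidHom
  have hgy : g * y * g⁻¹ ∈ A := by
    rw [hy, show g * (w * t₀) * g⁻¹ = g * w * g⁻¹ * (g * t₀ * g⁻¹) by group,
      show g * t₀ * g⁻¹ = t₀ from mul_inv_eq_iff_eq_mul.2 (mem_centralizer_iff.1 hg t₀ ht₀).symm]
    exact mul_mem hgw (F.tri_le c ht₀)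
  have hA'C : A' ≤ C := by
    rintro _ ⟨a, ha, rfl⟩
    refine mem_inf.2 ⟨?_, mem_centralizer_singleton_iff.2 ?_⟩
    · show g⁻¹ * a * g⁻¹⁻¹ ∈ triC f
      exact mul_mem (mul_mem (inv_mem hg) (F.A_le_triC c ha)) (inv_mem (inv_mem hg))
    · show g⁻¹ * a * g⁻¹⁻¹ * y = y * (g⁻¹ * a * g⁻¹⁻¹)
      calc g⁻¹ * a * g⁻¹⁻¹ * y = g⁻¹ * (a * (g * y * g⁻¹)) * g := by group
        _ = g⁻¹ * (g * y * g⁻¹ * a) * g := by rw [c.comm ha hgy]
        _ = _ := by group
  obtain ⟨P, hP⟩ := (((IsPGroup.of_card c.card).comap_subtype (K := C)).exists_le_sylow)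
  obtain ⟨P', hP'⟩ := ((IsPGroup.map (IsPGroup.of_card c.card) (MulAut.conj g⁻¹).toMonoidHom).comap_subtype (K := C)).exists_le_sylow
  obtain ⟨h, hh'⟩ := MulAction.exists_smul_eq ↥C P' P
  have hhN : (h : G) ∈ Subgroup.normalizer (A : Set G) := hcomm h h.2.1 (mem_centralizer_singleton_iff.1 h.2.2)
  have hPP : IsPGroup 2 ↥((P : Subgroup ↥C).map C.subtype) := P.2.map _
  have hA''e : Cfsg.IsElementaryAbelian 2 (A'.map (MulAut.conj (h : G)).toMonoidHom) :=
    elem_map' _ (elem_map' _ c.elem)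
  have heq : A'.map (MulAut.conj (h : G)).toMonoidHom = A := by
    refine c.uniq _ _ hA''e ?_ hPP ?_ ?_
    · rw [card_map_of_injective (MulEquiv.injective _), card_map_of_injective (MulEquiv.injective _), c.card]
    · intro a ha
      exact ⟨⟨a, hAC ha⟩, hP (show (⟨a, hAC ha⟩ : ↥C) ∈ A.subgroupOf C from ha), rfl⟩
    · rintro _ ⟨a, ha, rfl⟩
      refine ⟨h * ⟨a, hA'C ha⟩ * h⁻¹, ?_, rfl⟩
      rw [← hh']
      exact Subgroup.smul_mem_pointwise_smul _ (MulAut.conj h) (P' : Subgroup ↥C)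
        (hP' (show (⟨a, hA'C ha⟩ : ↥C) ∈ A'.subgroupOf C from ha))
  have hgA : ∀ a ∈ A, g⁻¹ * a * g ∈ A := by
    intro a ha
    have h1 : (h : G) * (g⁻¹ * a * g⁻¹⁻¹) * (h : G)⁻¹ ∈ A := heq ▸ ⟨_, ⟨a, ha, rfl⟩, rfl⟩
    have h2 := c.conj_mem (inv_mem hhN) h1
    simpa [mul_assoc] using h2
  exact inv_inv g ▸ inv_mem (c.mem_normalizer (k := g⁻¹) fun a ha => by simpa using hgA a ha)

end Frame

end CfsgLib.LargeFischer.Thompson
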