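import Cfsg.Agent.Lib.LargeFischer.FourCent.Lifts
import Cfsg.Agent.Lib.U6Central.Points
import Cfsg.Agent.Lib.U6Central.Setup

/-!
# The class of the image of `z` in the centraliser of the four-group modulo it
-/

set_option autoImplicit false
set_option linter.unusedSectionVars false
set_option linter.style.haveILetI false

namespace CfsgLib.LargeFischer.Thompson

open Subgroup QuadraticMap
open CfsgLib.Schur.Tails.UFour (H4)
open CfsgLib.LargeFischer.Core (Wsp)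
open CfsgLib.SURadical (IsPt)
open CfsgLib.PSUAut (Isot act)
open CfsgLib.ThreeTransp (link)

variable {G : Type*} [Group G] [Finite G] {z : G}
  {Q : Subgroup (centralizer ({z} : Set G))} [Q.Normal] {V : Type*} [AddCommGroup V] [Module (ZMod 2) V]
  [DistribMulAction ((centralizer ({z} : Set G)) ⧸ Q) V] [Finite V] {q : QuadraticForm (ZMod 2) V} {π : ↥Q → V}
  {n : (centralizer ({z} : Set G)) ⧸ Q} {M : Subgroup ((centralizer ({z} : Set G)) ⧸ Q)} {φ : ↥M →* ↥H4}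
  {s : V} {E : Subgroup ((centralizer ({z} : Set G)) ⧸ Q)} {D : AddSubgroup V}
  {A : Subgroup G} {Ab : Subgroup ((centralizer ({z} : Set G)) ⧸ Q)}
  {T : Fin 6 → V} {f : P24 → G}

namespace Frame

variable (c : Ctx Q q π n M φ s E D A Ab) (F : Frame π n Ab s A T f)
include c F

theorem z_triC : z ∈ triC f := F.A_le_triC c c.z_mem

/-- The image of `z`. -/
def dElt : TriQ f := tmk f ⟨z, F.z_triC c⟩

theorem tmk_eq {x y : ↥(triC f)} : tmk f x = tmk f y ↔ ∃ t ∈ tri f, (y : G) = (x : G) * t := by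
  rw [QuotientGroup.mk'_eq_mk']
  constructor
  · rintro ⟨t, ht, rfl⟩; exact ⟨t, ht, rfl⟩
  · rintro ⟨t, ht, e⟩
    exact ⟨⟨t, F.A_le_triC c (F.tri_le c ht)⟩, ht, Subtype.ext e.symm⟩

theorem conj_tri {g : G} (hg : g ∈ triC f) {t : G} (ht : t ∈ tri f) : g * t * g⁻¹ = t :=
  mul_inv_eq_iff_eq_mul.2 (mem_centralizer_iff.1 hg t ht).symm

/-- The conjugates of `z` by the centraliser are the only conjugates of `z` in their cosets. -/
theorem conj_unique {g : G} (hg : g ∈ triC f) {t : G} (ht : t ∈ tri f) (h : IsConj z (g * z * g⁻¹ * t)) : t = 1 := by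
  by_contra ht1
  have e : g * z * g⁻¹ * t = g * (z * t) * g⁻¹ := by
    nth_rewrite 1 [← F.conj_tri c hg ht]
    group
  rw [e] at h
  have h' : IsConj z (z * t) := h.trans (isConj_iff.2 ⟨g, rfl⟩).symm
  rw [← F.tau_zero c] at h'
  exact F.tau_mul_not c (show Off ((0, 0) : P24) by simp [Off]) ht ht1 (by rwa [F.tau_zero c] at h' ⊢)

theorem mem_class {x : TriQ f} : x ∈ conjugatesOf (F.dElt c) ↔
    ∃ g : ↥(triC f), tmk f (g * ⟨z, F.z_triC c⟩ * g⁻¹) = x := by
  show IsConj (F.dElt c) x ↔ _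
  rw [isConj_iff]
  constructor
  · rintro ⟨w, hw⟩
    obtain ⟨g, rfl⟩ := QuotientGroup.mk'_surjective _ w
    exact ⟨g, by rw [map_mul, map_mul, map_inv]; exact hw⟩
  · rintro ⟨g, rfl⟩
    exact ⟨tmk f g, by rw [map_mul, map_mul, map_inv]; rfl⟩

/-- A conjugate of `z` by the centraliser lying in `A` is a tetrad element. -/
theorem class_A {g : G} (hg : g ∈ triC f) (hA : g * z * g⁻¹ ∈ A) : ∃ d, Off d ∧ g * z * g⁻¹ = tau f d := by
  set y := g * z * g⁻¹ with hy
  have hyc : IsConj z y := isConj_iff.2 ⟨g, rfl⟩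
  have huniq : ∀ t ∈ tri f, IsConj z (y * t) → t = 1 := fun t ht h => F.conj_unique c hg ht h
  have ht12 : f (0, 1) * f (0, 2) ∈ tri f := (F.mem_tri c).2 (.inr (.inl rfl))
  have hne : f (0, 1) * f (0, 2) ≠ 1 := (F.pair _ _ (by decide)).2.1
  rcases F.kinds c hA with h | ⟨d, hd, t, ht, e⟩ | ⟨a, b, ha, hb, hab, t, ht, e⟩ | h
  · exact absurd hyc (F.tri_not_conj c h)
  · refine ⟨d, hd, ?_⟩
    by_cases ht1 : t = 1
    · rw [e, ht1, mul_one]
    · exact absurd (e ▸ hyc) (F.tau_mul_not c hd ht ht1)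
  · exfalso
    -- two conjugates in the coset of a pair
    have key : ∀ p r : P24, ¬ Off p → ¬ Off r → p ≠ r → IsConj z (f a * f b * (f p * f r)) := by
      intro p r hp hr hpr
      rw [← mul_assoc]
      refine F.tetrad_conj c ?_
      simp only [List.nodup_cons, List.mem_cons, List.not_mem_nil, or_false, not_or, List.nodup_nil, and_true,
        not_false_eq_true]
      refine ⟨⟨hab, fun h => hp (h ▸ ha), fun h => hr (h ▸ ha)⟩, ⟨fun h => hp (h ▸ hb), fun h => hr (h ▸ hb)⟩, hpr⟩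
    have hty : ∀ t' ∈ tri f, y * (t * t') = f a * f b * t' := fun t' _ => by
      rw [e, mul_assoc, ← mul_assoc t, c.sq (F.tri_le c ht), one_mul]
    have h1 := huniq _ (mul_mem ht ht12) (by rw [hty _ ht12]; exact key _ _ (by simp [Off]) (by simp [Off]) (by decide))
    have h23 : f (0, 2) * f (0, 3) ∈ tri f := (F.mem_tri c).2 (.inr (.inr (.inl rfl)))
    have h2 := huniq _ (mul_mem ht h23) (by rw [hty _ h23]; exact key _ _ (by simp [Off]) (by simp [Off]) (by decide))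
    have h3 := mul_left_cancel (h1.trans h2.symm)
    rcases F.uniq c (by decide) (by decide) h3 with ⟨h', -⟩ | ⟨-, h'⟩ <;> exact absurd h' (by decide)
  · exact absurd (huniq _ ht12 (h _ ht12)) hne

/-- Every tetrad element through the triangle is a conjugate of `z` in the centraliser. -/
theorem tau_class {d : P24} (hd : Off d) : ∃ g ∈ triC f, g ∈ Subgroup.normalizer (A : Set G) ∧ g * z * g⁻¹ = tau f d := by
  obtain ⟨h1, h2, h3⟩ := hd
  obtain ⟨m, hm, he⟩ := F.move c (k := 4) (by norm_num) ![(0, 1), (0, 2), (0, 3), (0, 0)]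
    ![(0, 1), (0, 2), (0, 3), d] (by decide) (by
      intro i j hij
      fin_cases i <;> fin_cases j <;>
        simp_all [h1.symm, h2.symm, h3.symm])
  have e12 : m * (f (0, 1) * f (0, 2)) * m⁻¹ = f (0, 1) * f (0, 2) := he 0 1
  have e23 : m * (f (0, 2) * f (0, 3)) * m⁻¹ = f (0, 2) * f (0, 3) := he 1 2
  have e30 : m * (f (0, 3) * f (0, 0)) * m⁻¹ = f (0, 3) * f d := he 2 3
  refine ⟨m, (F.mem_triC c).2 ⟨mul_inv_eq_iff_eq_mul.1 e12, mul_inv_eq_iff_eq_mul.1 e23⟩, hm, ?_⟩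
  rw [← F.tau_zero c, tau, tau, mul_assoc _ (f (0, 3)) (f (0, 0)), mul_assoc _ (f (0, 3)) (f d)]
  calc m * (f (0, 1) * f (0, 2) * (f (0, 3) * f (0, 0))) * m⁻¹
      = m * (f (0, 1) * f (0, 2)) * m⁻¹ * (m * (f (0, 3) * f (0, 0)) * m⁻¹) := by group
    _ = _ := by rw [e12, e30]

end Frame

namespace Loc

variable {v : V} {cr : ↥(Wsp q n v) →+ (Fin 4 → F4)}
  {ρ : ↥(MulAction.stabilizer ((centralizer ({z} : Set G)) ⧸ Q) v ⊓ M) ≃* ↥(Cfsg.SU 4 F4 2)}
  (L : Loc q π n M T f v cr ρ) (c : Ctx Q q π n M φ s E D A Ab) (F : Frame π n Ab s A T f)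
include L c F

theorem z_triH : z ∈ triH z f := mem_inf.2 ⟨F.z_triC c, mem_centralizer_singleton_iff.2 rfl⟩

theorem commute_lift {y : ↥(triC f)} (h : Commute (tmk f y) (F.dElt c)) : (y : G) ∈ triH z f := by
  refine mem_inf.2 ⟨y.2, mem_centralizer_singleton_iff.2 ?_⟩
  have h' : tmk f (y * ⟨z, F.z_triC c⟩) = tmk f (⟨z, F.z_triC c⟩ * y) := by rw [map_mul, map_mul]; exact h.eq
  obtain ⟨t, ht, e⟩ := (F.tmk_eq c).1 h'
  replace e : z * (y : G) = (y : G) * z * t := e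
  have e2 : (y : G) * z * (y : G)⁻¹ * t = z := by
    rw [mul_assoc, show (y : G)⁻¹ * t = t * (y : G)⁻¹ from
      ((show Commute t (y : G) from mem_centralizer_iff.1 y.2 t ht).inv_right).eq.symm, ← mul_assoc, ← e,
      mul_inv_cancel_right]
  rw [F.conj_unique c y.2 ht (e2.symm ▸ IsConj.refl z), mul_one] at e
  exact e.symm

/-- The lifts of the link: conjugates of tetrad elements outside the tetrad of `z`. -/
theorem link_lift {x : TriQ f} (hx : x ∈ link (conjugatesOf (F.dElt c)) (F.dElt c)) :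
    ∃ g : ↥(triC f), tmk f (g * ⟨z, F.z_triC c⟩ * g⁻¹) = x ∧ ((g * ⟨z, F.z_triC c⟩ * g⁻¹ : ↥(triC f)) : G) ∈ triH z f ∧
      ∃ h ∈ triH z f, ∃ d : P24, d.1 ≠ 0 ∧ h * ((g : G) * z * (g : G)⁻¹) * h⁻¹ = tau f d := by
  obtain ⟨hD, hne, hcomm⟩ := hx
  obtain ⟨g, hg⟩ := (F.mem_class c).1 hD
  have hyH := L.commute_lift c F (y := g * ⟨z, F.z_triC c⟩ * g⁻¹) (hg.symm ▸ hcomm.symm)
  refine ⟨g, hg, hyH, ?_⟩
  replace hyH : (g : G) * z * (g : G)⁻¹ ∈ triH z f := hyH
  have hy2 : (g : G) * z * (g : G)⁻¹ * ((g : G) * z * (g : G)⁻¹) ∈ tri f := by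
    rw [show (g : G) * z * (g : G)⁻¹ * ((g : G) * z * (g : G)⁻¹) = (g : G) * (z * z) * (g : G)⁻¹ by group,
      c.zz, mul_one, mul_inv_cancel]
    exact one_mem _
  obtain ⟨h, hh', hA⟩ := L.into_A c F hyH hy2
  have e : h * ((g : G) * z * (g : G)⁻¹) * h⁻¹ = h * g * z * (h * g)⁻¹ := by group
  obtain ⟨d, hd, hd'⟩ := F.class_A c (mul_mem hh'.1 g.2) (e ▸ hA)
  refine ⟨h, hh', d, fun h0 => hne ?_, e.trans hd'⟩
  have hd0 : d = (0, 0) := by
    obtain ⟨i, a⟩ := d
    obtain rfl : i = 0 := h0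
    obtain ⟨h1, h2, h3⟩ := hd
    fin_cases a
    · rfl
    · exact absurd rfl h1
    · exact absurd rfl h2
    · exact absurd rfl h3
  rw [hd0, F.tau_zero c, ← e, mul_inv_eq_iff_eq_mul, mem_centralizer_singleton_iff.1 hh'.2 |>.symm] at hd'
  have hd'' : (g : G) * z * (g : G)⁻¹ = z := mul_left_cancel hd'
  rw [← hg]
  exact congrArg (tmk f) (Subtype.ext hd'')

end Loc

end CfsgLib.LargeFischer.Thompson
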