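import Cfsg.Agent.Lib.LargeFischer.Thompson.Normaliser
import Cfsg.Agent.Lib.Golay.M24Sub

/-!
# A labelling of the elementary group `2^11` compatible with the six tetrads of the central involution

The points are pairs of one of six indices and one of four: the product of the four points over an index is the
central involution, the products of two points over the same index are the elements in `Q`.
-/

set_option autoImplicit false
set_option linter.unusedSectionVars false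
set_option linter.style.haveILetI false
set_option maxHeartbeats 1000000

namespace CfsgLib.LargeFischer.Thompson

open Subgroup QuadraticMap
open CfsgLib.Schur.Tails.UFour (H4)

/-- The 24 points. -/
abbrev P24 : Type := Fin 6 × Fin 4

variable {G : Type*} [Group G] [Finite G] {z : G}
  {Q : Subgroup (centralizer ({z} : Set G))} [Q.Normal] {V : Type*} [AddCommGroup V] [Module (ZMod 2) V]
  [DistribMulAction ((centralizer ({z} : Set G)) ⧸ Q) V] [Finite V] {q : QuadraticForm (ZMod 2) V} {π : ↥Q → V}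
  {n : (centralizer ({z} : Set G)) ⧸ Q} {M : Subgroup ((centralizer ({z} : Set G)) ⧸ Q)} {φ : ↥M →* ↥H4}
  {s : V} {E : Subgroup ((centralizer ({z} : Set G)) ⧸ Q)} {D : AddSubgroup V}
  {A : Subgroup G} {Ab : Subgroup ((centralizer ({z} : Set G)) ⧸ Q)}

/-- A labelling adapted to the six lines `T`. -/
structure Frame (π : ↥Q → V) (n : (centralizer ({z} : Set G)) ⧸ Q) (Ab : Subgroup ((centralizer ({z} : Set G)) ⧸ Q))
    (s : V) (A : Subgroup G) (T : Fin 6 → V) (f : P24 → G) : Prop where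
  mem : ∀ p, f p ∈ A
  pair : ∀ a b, a ≠ b → f a * f b ∈ Ns z A
  cover : ∀ x ∈ Ns z A, ∃ a b, a ≠ b ∧ f a * f b = x
  cell : ∀ i, f (i, 0) * f (i, 1) * f (i, 2) * f (i, 3) = z
  T_mem : ∀ i, T i ∈ ncset Ab s
  T_indep : ∀ i j, T j ∈ ln n (T i) → i = j
  inner_pi : ∀ i a b, a ≠ b → ∃ u : ↥Q, val u = f (i, a) * f (i, b) ∧ π u ≠ 0 ∧ π u ∈ ln n (T i)
  outer_im : ∀ a b : P24, a.1 ≠ b.1 → imK Q (f a * f b) ∈ Ab ∧ imK Q (f a * f b) ≠ 1 ∧
    T a.1 ∈ (rg (imK Q (f a * f b)) : AddSubgroup V) ∧ T b.1 ∈ (rg (imK Q (f a * f b)) : AddSubgroup V)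
  im_uniq : ∀ k ∈ Ab, k ≠ 1 → ∀ a b : P24, a.1 ≠ b.1 → T a.1 ∈ (rg k : AddSubgroup V) →
    T b.1 ∈ (rg k : AddSubgroup V) → k = imK Q (f a * f b)
  im_cover : ∀ k ∈ Ab, k ≠ 1 → ∃ a b : P24, a.1 ≠ b.1 ∧ k = imK Q (f a * f b)

namespace Ctx

variable (c : Ctx Q q π n M φ s E D A Ab)
include c

theorem exists_frame : ∃ (T : Fin 6 → V) (f : P24 → G), Frame π n Ab s A T f := by
  classical
  obtain ⟨T, nt, d⟩ := c.exists_six
  obtain ⟨att, bb, p⟩ := c.exists_pairs d
  obtain ⟨kk, l⟩ := c.exists_lifts d p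
  let k : P24 → G := fun x => val (kk x.1 (vec n T x))
  have hkA : ∀ x, k x ∈ A := fun x => l.mem _ _ (c.vec_mem T x)
  have hb0 : ∀ i j : Fin 6, i ≠ j → bb 0 i * bb 0 j = bb i j := by
    intro i j hij
    by_cases hi : i = 0
    · rw [hi, p.bb_self, one_mul]
    by_cases hj : j = 0
    · rw [hj, p.bb_self, mul_one, c.bb_symm d p i 0]
    exact c.bb_law d p l (Ne.symm hi) (Ne.symm hj) hij
  have hmul : ∀ x y : P24, bb 0 x.1 * k x * (bb 0 y.1 * k y) = bb 0 x.1 * bb 0 y.1 * k x * k y := by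
    intro x y
    rw [mul_assoc (bb 0 x.1), ← mul_assoc (k x), c.comm (hkA x) (c.bb_A d p 0 y.1)]
    simp only [mul_assoc]
  have hsame : ∀ i a b, bb 0 i * k (i, a) * (bb 0 i * k (i, b)) =
      val (kk i (vec n T (i, a)) * kk i (vec n T (i, b))) := by
    intro i a b
    refine (hmul (i, a) (i, b)).trans ?_
    show bb 0 i * bb 0 i * k (i, a) * k (i, b) = _
    rw [c.sq (c.bb_A d p 0 i), one_mul]
    rfl
  have hdiff : ∀ a b : P24, a.1 ≠ b.1 → imK Q (bb 0 a.1 * k a * (bb 0 b.1 * k b)) = att a.1 b.1 := by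
    intro a b hab
    rw [hmul, hb0 _ _ hab, imK_mul (c.le (mul_mem (c.bb_A d p _ _) (hkA a))) (c.le (hkA b)),
      imK_mul (c.le (c.bb_A d p _ _)) (c.le (hkA a)), c.bb_im d p, imK_val, imK_val, mul_one, mul_one]
  refine ⟨T, fun x => bb 0 x.1 * k x, fun x => mul_mem (c.bb_A d p 0 _) (hkA x), fun x y hxy => ?_, fun x hx => ?_,
    fun i => ?_, d.mem, d.indep, fun i a b hab => ?_, fun a b hab => ?_, fun j hj hj1 a b hab ha hb => ?_,
    fun j hj hj1 => ?_⟩
  · show bb 0 x.1 * k x * (bb 0 y.1 * k y) ∈ _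
    rw [hmul]
    by_cases hij : x.1 = y.1
    · rw [← hij, c.sq (c.bb_A d p 0 x.1), one_mul]
      have hy : vec n T y ∈ ln n (T x.1) := hij ▸ c.vec_mem T y
      have hne : vec n T x + vec n T y ≠ 0 := fun e => hxy (by
        obtain ⟨i, a⟩ := x
        obtain ⟨j, b⟩ := y
        obtain rfl : i = j := hij
        rw [c.vec_inj d (eq_of_vadd e)])
      show val (kk x.1 (vec n T x) * kk y.1 (vec n T y)) ∈ _
      refine c.val_nc.2 ?_
      rw [c.mdl.pi_mul, l.pi _ _ (c.vec_mem T x), l.pi _ _ (c.vec_mem T y)]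
      exact c.ln_nc (d.mem x.1) (c.oth.ln_add (c.vec_mem T x) hy) hne
    · rw [hb0 _ _ hij]
      exact c.cross d p l hij (c.vec_mem T x) (c.vec_mem T y)
  · by_cases hQ : ∃ u : ↥Q, val u = x
    · obtain ⟨u, rfl⟩ := hQ
      have hnc := c.val_nc.1 hx
      obtain ⟨i, hi⟩ := d.cover _ hnc
      rcases c.mdl.pi_eq (x := kk i (π u)) (y := u) (l.pi i _ hi) with e | e
      · obtain ⟨a, ha⟩ := c.exists_vec hi
        refine ⟨(i, 0), (i, a), fun e' => ?_, ?_⟩
        · obtain rfl : (0 : Fin 4) = a := congrArg Prod.snd e'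
          exact hnc.2.1 ha.symm
        · show bb 0 i * k (i, 0) * (bb 0 i * k (i, a)) = _
          rw [hsame, ha]
          show val (kk i 0) * val (kk i (π u)) = _
          rw [c.kk_zero d p l, one_mul]
          exact (show val u = val (kk i (π u)) from e).symm
      · set v := π u
        obtain ⟨hnv, -, -, hnv0, -⟩ := c.oth.n_move hnc.2.1
        have hw := c.oth.ln_smul hi
        obtain ⟨a, ha⟩ := c.exists_vec hw
        obtain ⟨b, hb⟩ := c.exists_vec (c.oth.ln_add hi hw)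
        refine ⟨(i, a), (i, b), fun e' => ?_, ?_⟩
        · rw [e', hb] at ha
          exact hnc.2.1 (add_eq_right.1 ha)
        · show bb 0 i * k (i, a) * (bb 0 i * k (i, b)) = _
          rw [hsame, ha, hb]
          refine Eq.trans ?_ ((congrArg (val (kk i v) * ·) (c.inner_law d p l hi hw hnc.2.1 hnv0 hnv.symm)).trans
            (show val u = val (kk i v) * z from e).symm)
          show _ = val (kk i v) * (val (kk i v) * val (kk i (n • v)) * val (kk i (v + n • v)))
          rw [← mul_assoc, ← mul_assoc, c.sq (l.mem i v hi), one_mul]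
          rfl
    · have hk1 : imK Q x ≠ 1 := fun e => hQ ((c.imK_eq_one hx.1).1 e)
      obtain ⟨i, j, hij, hk⟩ := p.att_cover _ (c.imK_mem hx.1) hk1
      obtain ⟨u, huA, -, rfl⟩ := (c.coset_struct (p.att_ne i j hij) (p.bb_mem i j hij)).2.2.1 x ⟨hx, hk⟩
      obtain ⟨⟨va, vb⟩, ⟨ha, hb⟩, hab⟩ := c.lift_span d p hij hx
      obtain ⟨a, rfl⟩ := c.exists_vec ha
      obtain ⟨b, rfl⟩ := c.exists_vec hb
      refine ⟨(i, a), (j, b), fun e => hij (congrArg Prod.fst e), ?_⟩
      show bb 0 i * k (i, a) * (bb 0 j * k (j, b)) = _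
      refine (hmul (i, a) (j, b)).trans ?_
      show bb 0 i * bb 0 j * k (i, a) * k (j, b) = _
      rw [hb0 i j hij, mul_assoc]
      show bb i j * val (kk i (vec n T (i, a)) * kk j (vec n T (j, b))) = _
      rw [c.uniq_lift d p hij huA (u' := kk i (vec n T (i, a)) * kk j (vec n T (j, b)))
        (mul_mem (l.mem i _ ha) (l.mem j _ hb)) hx (by
          show bb i j * (val (kk i (vec n T (i, a))) * val (kk j (vec n T (j, b)))) ∈ _
          rw [← mul_assoc]; exact c.cross d p l hij ha hb)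
        (by rw [c.mdl.pi_mul, l.pi i _ ha, l.pi j _ hb]; exact hab.symm)]
  · show bb 0 i * k (i, 0) * (bb 0 i * k (i, 1)) * (bb 0 i * k (i, 2)) * (bb 0 i * k (i, 3)) = z
    rw [mul_assoc (bb 0 i * k (i, 0) * (bb 0 i * k (i, 1))), hsame, hsame]
    show val (kk i 0) * val (kk i (T i)) * (val (kk i (n • T i)) * val (kk i (n • n • T i))) = z
    rw [c.kk_zero d p l, one_mul, ← mul_assoc, ← c.oth.n_sum (T i)]
    obtain ⟨h1, -, -, h0, -⟩ := c.oth.n_move (c.T_ne d i)
    exact c.inner_law d p l (Or.inr (Or.inl rfl)) (Or.inr (Or.inr (Or.inl rfl))) (c.T_ne d i) h0 h1.symm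
  · refine ⟨kk i (vec n T (i, a)) * kk i (vec n T (i, b)), (hsame i a b).symm, ?_, ?_⟩ <;>
      rw [c.mdl.pi_mul, l.pi i _ (c.vec_mem T (i, a)), l.pi i _ (c.vec_mem T (i, b))]
    · exact fun e => hab (c.vec_inj d (eq_of_vadd e))
    · exact c.oth.ln_add (c.vec_mem T (i, a)) (c.vec_mem T (i, b))
  · rw [hdiff a b hab]
    exact ⟨p.att_mem _ _, p.att_ne _ _ hab, p.att_rg _ _ hab⟩
  · rw [hdiff a b hab]
    exact p.att_uniq j hj hj1 _ _ hab ha hb
  · obtain ⟨i, i', hii, e⟩ := p.att_cover j hj hj1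
    exact ⟨(i, 0), (i', 0), hii, e.trans (hdiff (i, 0) (i', 0) hii).symm⟩

end Ctx

end CfsgLib.LargeFischer.Thompson
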