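import Cfsg.Agent.Lib.ThreeTransp.SURadical.Abelian
import Cfsg.Agent.Lib.Known.UnitaryInvolution

/-!
# Involutions and isotropic lines of `SU₄(2)`
-/

set_option autoImplicit false
set_option linter.unusedSectionVars false

namespace CfsgLib.LargeFischer.SUFour

open Matrix CfsgLib.PSUAut
open CfsgLib.SURadical (IsPt)

variable {F : Type} [Field F] [Fintype F] (hF : Fintype.card F = 2 ^ 2)

local notation "V4" => Fin 4 → F
local notation "hh" => Cfsg.hermForm 4 F 2
local notation "SU4" => (Cfsg.SU 4 F 2)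

/-- `g - 1`. -/
def dN (g : SU4) : V4 →ₗ[F] V4 :=
  (((g : SpecialLinearGroup (Fin 4) F) : Matrix (Fin 4) (Fin 4) F) - 1).mulVecLin

theorem dN_apply (g : SU4) (y : V4) : dN g y = act g y - y := by
  simp [dN, act, sub_mulVec]

include hF

theorem dN_eq (g : SU4) (y : V4) : dN g y = act g y + y := by
  haveI := CfsgLib.SURadical.charTwo hF
  rw [dN_apply]
  funext i
  simp [sub_eq_add_neg, CharTwo.neg_eq]

theorem dN_dN {g : SU4} (hg : g * g = 1) (y : V4) : dN g (dN g y) = 0 := by
  rw [dN_eq hF, dN_eq hF, act_add, ← act_mul, hg, act_one, add_comm y, CfsgLib.SURadical.vadd_self hF]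

/-- An element moving vectors only along an isotropic point is trivial or the transvection at it. -/
theorem pt_of_range {g : SU4} (hg : g * g = 1) (hg1 : g ≠ 1) {r : V4} (hr : Isot 2 r)
    (h : ∀ y, ∃ a : F, act g y + y = a • r) : IsPt g r := by
  obtain ⟨σ, hσ⟩ := CfsgLib.SURadical.exists_sigma hF
  choose l hl using h
  have hgy : ∀ y, act g y = y + l y • r := fun y => by
    rw [← hl y, add_comm (act g y) y, ← add_assoc, CfsgLib.SURadical.vadd_self hF, zero_add]
  -- the operator is self-adjoint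
  have hadj : ∀ x y, l x * hh r y = (l y) ^ 2 * hh x r := by
    intro x y
    have e1 : hh (act g x) y = hh x (act g y) := by
      rw [← act_form g (act g x) y, ← act_mul, hg, act_one]
    rw [hgy, hgy, CfsgLib.SURadical.add_left hF, CfsgLib.SURadical.smul_left hF, CfsgLib.SURadical.add_right hF,
      CfsgLib.SURadical.smul_right hF] at e1
    exact add_left_cancel e1
  obtain ⟨y₀, hy₀⟩ := exists_partner hF hσ hr.1
  have hry : hh r y₀ = 1 := CfsgLib.SURadical.comm_one hF hy₀
  have hl' : ∀ x, l x = (l y₀) ^ 2 * hh x r := fun x => by rw [← hadj x y₀, hry, mul_one]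
  have hμ : (l y₀) ^ 2 = 1 := by
    have h1 := hl' y₀
    rw [hy₀, mul_one] at h1
    have h0 : l y₀ ≠ 0 := fun e => hg1 (act_ext fun y => by
      rw [act_one, hgy, hl', e, zero_pow two_ne_zero, zero_mul, zero_smul, add_zero])
    have h2 : l y₀ * 1 = l y₀ * l y₀ := by rw [mul_one, ← pow_two]; exact h1
    rw [pow_two, ← mul_left_cancel₀ h0 h2, mul_one]
  exact ⟨hr, fun y => by rw [hgy, hl', hμ, one_mul]⟩

theorem finrank_le {g : SU4} (hg : g * g = 1) : Module.finrank F (LinearMap.range (dN g)) ≤ 2 := by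
  have h1 : LinearMap.range (dN g) ≤ LinearMap.ker (dN g) := by
    rintro _ ⟨y, rfl⟩
    exact dN_dN hF hg y
  have h2 := LinearMap.finrank_range_add_finrank_ker (dN g)
  have h3 := Submodule.finrank_mono h1
  rw [Module.finrank_fin_fun] at h2
  omega

/-- An involution is a transvection or has commutator space a plane. -/
theorem kinds {g : SU4} (hg : g * g = 1) (hg1 : g ≠ 1) :
    (∃ r, IsPt g r) ∨ Module.finrank F (LinearMap.range (dN g)) = 2 := by
  haveI := CfsgLib.SURadical.charTwo hF
  obtain ⟨σ, hσ⟩ := CfsgLib.SURadical.exists_sigma hF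
  by_cases h : Module.finrank F (LinearMap.range (dN g)) = 2
  · exact .inr h
  left
  have hne : LinearMap.range (dN g) ≠ ⊥ := fun e => hg1 (act_ext fun y => by
    have hy : dN g y = 0 := (Submodule.mem_bot F).1 (e ▸ LinearMap.mem_range_self _ y)
    rw [dN_eq hF] at hy
    rw [act_one]
    calc act g y = act g y + (y + y) := by rw [CfsgLib.SURadical.vadd_self hF, add_zero]
      _ = y := by rw [← add_assoc, hy, zero_add])
  have h1 : Module.finrank F (LinearMap.range (dN g)) = 1 := by
    have := finrank_le hF hg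
    have h0 : Module.finrank F (LinearMap.range (dN g)) ≠ 0 := fun e => hne (Submodule.finrank_eq_zero.1 e)
    omega
  obtain ⟨⟨r, hr⟩, hr0, hspan⟩ := finrank_eq_one_iff'.1 h1
  obtain ⟨x, rfl⟩ := hr
  have hiso : Isot 2 (dN g x) := by
    refine ⟨fun e => hr0 (Subtype.ext e), ?_⟩
    have e1 : hh (act g x) x = hh x (act g x) := by
      rw [← act_form g (act g x) x, ← act_mul, hg, act_one]
    rw [dN_eq hF, CfsgLib.SURadical.add_left hF, CfsgLib.SURadical.add_right hF, CfsgLib.SURadical.add_right hF,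
      act_form, e1]
    calc hh x x + hh x (act g x) + (hh x (act g x) + hh x x)
        = (hh x x + hh x x) + (hh x (act g x) + hh x (act g x)) := by ring
      _ = 0 := by rw [CfsgLib.SURadical.add_self hF, CfsgLib.SURadical.add_self hF, add_zero]
  refine ⟨_, pt_of_range hF hg hg1 hiso fun y => ?_⟩
  obtain ⟨a, ha⟩ := hspan ⟨dN g y, LinearMap.mem_range_self _ y⟩
  exact ⟨a, by rw [← dN_eq hF]; exact (congrArg Subtype.val ha).symm⟩

theorem isPt_range {g : SU4} {r : V4} (h : IsPt g r) : LinearMap.range (dN g) = Submodule.span F {r} := by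
  obtain ⟨σ, hσ⟩ := CfsgLib.SURadical.exists_sigma hF
  obtain ⟨y₀, hy₀⟩ := exists_partner hF hσ h.1.1
  have e : ∀ y, dN g y = hh y r • r := fun y => by
    rw [dN_eq hF, h.2, add_comm y, add_assoc, CfsgLib.SURadical.vadd_self hF, add_zero]
  refine le_antisymm ?_ ((Submodule.span_singleton_le_iff_mem _ _).2 ⟨y₀, by rw [e, hy₀, one_smul]⟩)
  rintro _ ⟨y, rfl⟩
  rw [e]
  exact Submodule.smul_mem _ _ (Submodule.mem_span_singleton_self r)

/-- Two involutions with planes as commutator spaces are conjugate. -/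
theorem plane_conj {a b : SU4} (ha : a * a = 1) (hb : b * b = 1)
    (ha2 : Module.finrank F (LinearMap.range (dN a)) = 2) (hb2 : Module.finrank F (LinearMap.range (dN b)) = 2) :
    ∃ g : SU4, g * a * g⁻¹ = b ∧ ∀ y ∈ LinearMap.range (dN a), act g y ∈ LinearMap.range (dN b) := by
  haveI := CfsgLib.SURadical.charTwo hF
  have ha1 : a ≠ 1 := fun e => by
    have h0 : LinearMap.range (dN a) = ⊥ := by
      rw [LinearMap.range_eq_bot]
      exact LinearMap.ext fun y => by rw [dN_apply, e, act_one, sub_self]; rfl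
    rw [h0, finrank_bot] at ha2
    omega
  obtain ⟨g, hg⟩ := isConj_iff.1 (CfsgLib.Known.UnitaryInvolution.isConj_of_rank hF a b ha hb ha1 (ha2.trans hb2.symm))
  refine ⟨g, hg, ?_⟩
  rintro _ ⟨y, rfl⟩
  refine ⟨act g y, ?_⟩
  rw [dN_apply, dN_apply, act_sub, ← hg, act_mul, act_mul, act_inv_apply]

/-- Two orthogonal isotropic points lie in the commutator space of an involution with a plane. -/
theorem exists_plane {u w : V4} (hu : Isot 2 u) (hw : Isot 2 w) (hwu : hh u w = 0) (hind : ∀ a : F, w ≠ a • u) :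
    ∃ g : SU4, g * g = 1 ∧ Module.finrank F (LinearMap.range (dN g)) = 2 ∧
      u ∈ LinearMap.range (dN g) ∧ w ∈ LinearMap.range (dN g) := by
  haveI := CfsgLib.SURadical.charTwo hF
  obtain ⟨σ, hσ⟩ := CfsgLib.SURadical.exists_sigma hF
  obtain ⟨p, hp⟩ := CfsgLib.SURadical.exists_pt hF hu
  obtain ⟨t, ht⟩ := CfsgLib.SURadical.exists_pt hF hw
  have hpt : Commute p t := (hp.commute_iff hF ht).2 hwu
  have hmul : ∀ y, dN (p * t) y = hh y u • u + hh y w • w := fun y => by
    rw [dN_eq hF, act_mul, hp.2, ht.2, CfsgLib.SURadical.add_left hF, CfsgLib.SURadical.smul_left hF,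
      (CfsgLib.SURadical.comm_zero hF).1 hwu, mul_zero, add_zero]
    calc y + hh y w • w + hh y u • u + y = (y + y) + (hh y u • u + hh y w • w) := by abel
      _ = _ := by rw [CfsgLib.SURadical.vadd_self hF, zero_add]
  have hsq : p * t * (p * t) = 1 := by
    rw [hpt.symm.mul_mul_mul_comm, hp.mul_self hF, ht.mul_self hF, one_mul]
  obtain ⟨y₀, hy₀⟩ := exists_partner hF hσ hu.1
  set a := hh y₀ w ^ 2 with ha
  have hw' : w + a • u ≠ 0 := fun e => hind a (by
    calc w = w + (a • u + a • u) := by rw [CfsgLib.SURadical.vadd_self hF, add_zero]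
      _ = a • u := by rw [← add_assoc, e, zero_add])
  obtain ⟨y₁, hy₁⟩ := exists_partner hF hσ hw'
  have h4 : a ^ 2 = hh y₀ w := by
    rw [ha, ← pow_mul, show 2 * 2 = 4 from rfl]
    have := FiniteField.pow_card (hh y₀ w)
    rwa [hF] at this
  have h0 : hh y₀ (w + a • u) = 0 := by
    rw [CfsgLib.SURadical.add_right hF, CfsgLib.SURadical.smul_right hF, hy₀, mul_one, h4,
      CfsgLib.SURadical.add_self hF]
  set y₂ := y₁ + hh y₁ u • y₀ with hy2
  have h2u : hh y₂ u = 0 := by
    rw [hy2, CfsgLib.SURadical.add_left hF, CfsgLib.SURadical.smul_left hF, hy₀, mul_one,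
      CfsgLib.SURadical.add_self hF]
  have h2w : hh y₂ w = 1 := by
    have e : hh y₂ (w + a • u) = 1 := by
      rw [hy2, CfsgLib.SURadical.add_left hF, CfsgLib.SURadical.smul_left hF, hy₁, h0, mul_zero, add_zero]
    rwa [CfsgLib.SURadical.add_right hF, CfsgLib.SURadical.smul_right hF, h2u, mul_zero, add_zero] at e
  have hwr : w ∈ LinearMap.range (dN (p * t)) := ⟨y₂, by rw [hmul, h2u, h2w, zero_smul, one_smul, zero_add]⟩
  have hur : u ∈ LinearMap.range (dN (p * t)) := by
    have h := Submodule.sub_mem _ (LinearMap.mem_range_self (dN (p * t)) y₀) (Submodule.smul_mem _ (hh y₀ w) hwr)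
    rwa [hmul, hy₀, one_smul, add_sub_cancel_right] at h
  have hind' : LinearIndependent F ![u, w] := (LinearIndependent.pair_iff' hu.1).2 fun a e => hind a e.symm
  have hle : Submodule.span F (Set.range ![u, w]) ≤ LinearMap.range (dN (p * t)) :=
    Submodule.span_le.2 (by
      rintro _ ⟨i, rfl⟩
      fin_cases i
      exacts [hur, hwr])
  refine ⟨p * t, hsq, ?_, hur, hwr⟩
  have h2 := Submodule.finrank_mono hle
  rw [finrank_span_eq_card hind', Fintype.card_fin] at h2
  have := finrank_le hF hsq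
  omega

end CfsgLib.LargeFischer.SUFour
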