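import Cfsg.Agent.Lib.LargeFischer.FourCent.Lines

/-!
# The tetrad elements over the transvections, and moving involutions of `C(z) ∩ C(E)` into `A`
-/

set_option autoImplicit false
set_option linter.unusedSectionVars false
set_option linter.style.haveILetI false

namespace CfsgLib.LargeFischer.Thompson

open Subgroup QuadraticMap
open CfsgLib.Schur.Tails.UFour (H4)
open CfsgLib.LargeFischer.Core (Wsp)
open CfsgLib.SURadical (IsPt)
open CfsgLib.PSUAut (Isot act)
open CfsgLib.LargeFischer.SUFour (dN dN_apply dN_eq)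

variable {G : Type*} [Group G] [Finite G] {z : G}
  {Q : Subgroup (centralizer ({z} : Set G))} [Q.Normal] {V : Type*} [AddCommGroup V] [Module (ZMod 2) V]
  [DistribMulAction ((centralizer ({z} : Set G)) ⧸ Q) V] [Finite V] {q : QuadraticForm (ZMod 2) V} {π : ↥Q → V}
  {n : (centralizer ({z} : Set G)) ⧸ Q} {M : Subgroup ((centralizer ({z} : Set G)) ⧸ Q)} {φ : ↥M →* ↥H4}
  {s : V} {E : Subgroup ((centralizer ({z} : Set G)) ⧸ Q)} {D : AddSubgroup V}
  {A : Subgroup G} {Ab : Subgroup ((centralizer ({z} : Set G)) ⧸ Q)}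
  {T : Fin 6 → V} {f : P24 → G}

local notation "V4" => Fin 4 → F4
local notation "SU4" => (Cfsg.SU 4 F4 2)
local notation "hh" => Cfsg.hermForm 4 F4 2

namespace Loc

variable {v : V} {cr : ↥(Wsp q n v) →+ (Fin 4 → F4)}
  {ρ : ↥(MulAction.stabilizer ((centralizer ({z} : Set G)) ⧸ Q) v ⊓ M) ≃* ↥(Cfsg.SU 4 F4 2)}
  (L : Loc q π n M T f v cr ρ) (c : Ctx Q q π n M φ s E D A Ab) (F : Frame π n Ab s A T f)
include L c F

theorem tau_sq (d : P24) : tau f d * tau f d = 1 := c.sq (F.tau_mem c d)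

theorem tau_off {d : P24} (hd : d.1 ≠ 0) : Off d := by
  refine ⟨?_, ?_, ?_⟩ <;> rintro rfl <;> exact hd rfl

/-- A tetrad element times `z` is not conjugate to `z`. -/
theorem tau_z {d : P24} (hd : d.1 ≠ 0) : ¬ IsConj z (tau f d * z) := by
  obtain ⟨h1, h2, h3⟩ := L.tau_off c F hd
  set P := f (0, 1) * f (0, 2) * f (0, 3)
  have hP : P ∈ A := mul_mem (mul_mem (F.mem _) (F.mem _)) (F.mem _)
  have e : tau f d * z = f d * f (0, 0) := by
    rw [← F.tau_zero c, tau, tau]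
    calc P * f d * (P * f (0, 0)) = f d * P * (P * f (0, 0)) := by rw [c.comm hP (F.mem d)]
      _ = f d * (P * P) * f (0, 0) := by simp only [mul_assoc]
      _ = f d * f (0, 0) := by rw [c.sq hP, mul_one]
  rw [e]
  exact F.not_isConj c fun he => hd (by rw [he])

theorem im_tau {d : P24} (hd : d.1 ≠ 0) : imK Q (tau f d) = kT Q f d.1 := by
  rw [L.imK_tau c F hd, ← L.im_cell c F hd d.2]

/-- An element of `Q` fixed by the tetrad element commutes with it. -/
theorem tau_comm {d : P24} (hd : d.1 ≠ 0) {b : ↥Q} (hfix : kT Q f d.1 • π b = π b) :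
    val b * tau f d = tau f d * val b := by
  obtain ⟨u, -, hu, hpu⟩ := c.comm_q (F.tau_mem c d) b
  rw [← imK_eq, L.im_tau c F hd, hfix, vadd_self] at hpu
  rcases (c.mdl.ker u).1 hpu with e | e
  · rw [show val u = 1 from e, mul_one] at hu
    exact mul_inv_eq_iff_eq_mul.1 hu
  · exfalso
    rw [show val u = z from e] at hu
    exact L.tau_z c F hd (hu ▸ (F.tau_conj c (L.tau_off c F hd)).trans (isConj_iff.2 ⟨val b, rfl⟩))

/-- A conjugate of a tetrad element over a tetrad element lies in `A`. -/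
theorem tau_conj_mem {y : G} (hy : y ∈ triH z f) {d : P24} (hd : d.1 ≠ 0) {i : Fin 6} (hi : i ≠ 0)
    (h : imK Q (y * tau f d * y⁻¹) = kT Q f i) : y * tau f d * y⁻¹ ∈ A := by
  classical
  obtain ⟨hyT, hyz⟩ := mem_inf.1 hy
  set a := y * tau f d * y⁻¹ with ha
  obtain ⟨hk, hk1, h0, hTi⟩ := L.kT_mem c F hi
  have hτz : tau f d ∈ centralizer ({z} : Set G) := c.le (F.tau_mem c d)
  have haz : a ∈ centralizer ({z} : Set G) := mul_mem (mul_mem hyz hτz) (inv_mem hyz)
  have hτi := L.im_tau c F (d := (i, 0)) hi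
  have h1 : imK Q (tau f (i, 0) * a) = 1 := by
    rw [imK_mul (c.le (F.tau_mem c _)) haz, h, hτi]
    exact (pow_two _).symm.trans (c.oth.elem.2 _ hk)
  have hmem : tau f (i, 0) * a ∈ centralizer ({z} : Set G) := mul_mem (c.le (F.tau_mem c _)) haz
  rw [imK_eq hmem, QuotientGroup.mk'_apply, QuotientGroup.eq_one_iff] at h1
  set j : ↥Q := ⟨⟨_, hmem⟩, h1⟩
  -- `j` commutes with everything fixed by the tetrad element
  have hperp : ∀ x : V, kT Q f i • x = x → polar q (π j) x = 0 := by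
    intro x hx
    obtain ⟨b, rfl⟩ := c.mdl.surj x
    rw [c.mdl.polar_iff]
    have e1 := L.tau_comm c F (d := (i, 0)) hi hx
    have e2 : val b * a = a * val b := by
      obtain ⟨b', hb', hpb⟩ := c.pi_conj (⟨y, hyz⟩⁻¹ : centralizer ({z} : Set G)) b
      replace hb' : val b' = y⁻¹ * val b * y := by rw [hb']; simp
      have hfix : kT Q f d.1 • π b' = π b' := by
        have hconj : kT Q f i = QuotientGroup.mk' Q ⟨y, hyz⟩ * kT Q f d.1 * (QuotientGroup.mk' Q ⟨y, hyz⟩)⁻¹ := by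
          rw [← L.im_tau c F hd, ← h, imK_eq haz, imK_eq hτz, ← map_inv, ← map_mul, ← map_mul]
          rfl
        rw [map_inv] at hpb
        rw [hpb]
        rw [hconj, mul_smul, mul_smul] at hx
        exact (eq_inv_smul_iff.2 hx)
      have e := L.tau_comm c F hd hfix
      rw [hb'] at e
      calc val b * a = y * (y⁻¹ * val b * y * tau f d) * y⁻¹ := by rw [ha]; group
        _ = a * val b := by rw [e, ha]; group
    show tau f (i, 0) * a * val b = val b * (tau f (i, 0) * a)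
    rw [mul_assoc, ← e2, ← mul_assoc, ← e1, mul_assoc]
  -- so its vector lies in the commutator space
  have hrg : π j ∈ (rg (kT Q f i) : AddSubgroup V) := by
    let g : V →+ V := AddMonoidHom.mk' (fun x : V => kT Q f i • x + x) fun a b => by simp only [smul_add]; abel
    have e1 := g.ker.card_mul_index
    rw [AddSubgroup.index_ker, show g.range = rg (kT Q f i) from rfl, c.mdl.core.cardV] at e1
    have h16 := (c.coset_struct (k := kT Q f i) hk1 (a := f (0, 0) * f (i, 0))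
      ⟨F.pair _ _ (by simp [Prod.ext_iff, hi.symm]), rfl⟩).1
    rw [h16] at e1
    have e2 := perpSub_card q c.mdl.core.nondeg g.ker
    rw [c.mdl.core.cardV] at e2
    have hle : (rg (kT Q f i) : AddSubgroup V) ≤ perpSub q g.ker := by
      rintro _ ⟨u, rfl⟩ x hx
      show polar q (kT Q f i • u + u) x = 0
      rw [c.oth.symm hk, show kT Q f i • x + x = 0 from hx, polar_zero_right]
    have hker0 : 0 < Nat.card ↥g.ker := Nat.card_pos
    rw [AddSubgroup.eq_of_le_of_card_ge hle (by rw [h16]; nlinarith)]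
    exact fun x hx => hperp x (eq_of_vadd hx)
  have hjA : val j ∈ A := (c.mem_Q j).2 (c.oth.rg_le hk hrg)
  have := mul_mem (F.tau_mem c (i, 0)) hjA
  rwa [show tau f (i, 0) * val j = a by
    show tau f (i, 0) * (tau f (i, 0) * a) = a
    rw [← mul_assoc, L.tau_sq c F, one_mul]] at this

theorem mem_of_cr {x : ↥Q} (hx : π x ∈ Wsp q n v) {y : ↥(Wsp q n v)} (hy : (y : V) ∈ (fixSub Ab : AddSubgroup V))
    (e : cr ⟨π x, hx⟩ = cr y) : val x ∈ A := (c.mem_Q x).2 (L.fix_of_cr c F hy e)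

theorem cr_T_smul (a : F4) {i : Fin 6} (hi : i ≠ 0) :
    ∃ y : ↥(Wsp q n v), (y : V) ∈ (fixSub Ab : AddSubgroup V) ∧
      cr y = a • cr ⟨T i, L.fix_le c F (L.T_fix c F i)⟩ := by
  set t : ↥(Wsp q n v) := ⟨T i, L.fix_le c F (L.T_fix c F i)⟩
  have hnT : n • T i ∈ (fixSub Ab : AddSubgroup V) := c.oth.facts.2.2.1 _ (L.T_fix c F i)
  set t' : ↥(Wsp q n v) := ⟨n • T i, L.fix_le c F hnT⟩
  obtain ⟨b, hb⟩ := L.nline t t' rfl
  have hb0 : b ≠ 0 := fun e => by
    rw [e, zero_smul] at hb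
    exact L.T_notMem c F hi (by
      have h := c.oth.ln_smul (c.oth.ln_smul ((L.ker t').1 hb))
      rwa [show n • n • (t' : V) = T i from c.mdl.core.smul_n_three _] at h)
  have hb1 : b ≠ 1 := fun e => by
    rw [e, one_smul] at hb
    have h2 : cr (t' + t) = 0 := by rw [map_add, hb]; exact CfsgLib.SURadical.vadd_self card_F4' _
    rw [L.ker, AddSubgroup.coe_add] at h2
    refine L.T_notMem c F hi ?_
    have h3 : n • n • T i ∈ ln n v := by rw [← c.oth.n_sum, add_comm]; exact h2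
    have h4 := c.oth.ln_smul h3
    rwa [c.mdl.core.smul_n_three] at h4
  obtain ⟨w, hw0, hw1, hww, hall⟩ := CfsgLib.SURadical.exists_omega (F := F4) card_F4'
  have hw2 : w ^ 2 = w + 1 := by
    linear_combination hww - CfsgLib.SURadical.add_self card_F4' w - CfsgLib.SURadical.add_self card_F4' (1 : F4)
  rcases hall a with rfl | rfl | ha
  · exact ⟨0, zero_mem _, by rw [map_zero, zero_smul]⟩
  · exact ⟨t, L.T_fix c F i, (one_smul _ _).symm⟩
  rcases hall b with e | e | hb'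
  · exact absurd e hb0
  · exact absurd e hb1
  by_cases hab : a = b
  · exact ⟨t', hnT, by rw [hb, hab]⟩
  · refine ⟨t' + t, add_mem hnT (L.T_fix c F i), ?_⟩
    have hsum : a = b + 1 := by
      rcases ha with rfl | rfl <;> rcases hb' with rfl | rfl
      · exact absurd rfl hab
      · rw [hw2, add_assoc, CfsgLib.SURadical.add_self card_F4', add_zero]
      · exact hw2
      · exact absurd rfl hab
    rw [map_add, hb, hsum, add_smul, one_smul]

/-- Every element with square in the four-group is conjugate into `A`. -/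
theorem into_A {g : G} (hg : g ∈ triH z f) (hg2 : g * g ∈ tri f) : ∃ y ∈ triH z f, y * g * y⁻¹ ∈ A := by
  classical
  have hAH := L.A_le c F
  -- the case of an element of `Q`
  have caseQ : ∀ j : ↥Q, π j ∈ Wsp q n v → val j * val j = 1 → ∃ y ∈ triH z f, y * val j * y⁻¹ ∈ A := by
    intro j hj hj2
    have hq : q (π j) = 0 := (c.mdl.sq j).2 (Subtype.ext (Subtype.ext hj2))
    by_cases h0 : cr ⟨π j, hj⟩ = 0
    · refine ⟨1, one_mem _, ?_⟩
      rw [one_mul, inv_one, mul_one]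
      exact L.mem_of_cr c F hj (y := 0) (zero_mem _) (h0.trans (map_zero cr).symm)
    obtain ⟨t, ht⟩ := CfsgLib.SURadical.exists_pt card_F4' (v := cr ⟨π j, hj⟩)
      ⟨h0, by rw [L.herm, hq, map_zero]⟩
    obtain ⟨y₀, hy₀⟩ := ht.exists_conj card_F4' (L.kT_pt c F (i := 1) (by decide))
    obtain ⟨⟨y, hy⟩, rfl⟩ := L.hom_surj c F y₀
    obtain ⟨a, -, ha⟩ := (L.kT_pt c F (i := 1) (by decide)).span_eq card_F4' (hy₀ ▸ ht.conj _)
    obtain ⟨x', hx', e1, e2⟩ := L.hom_act c F ⟨y, hy⟩ hj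
    obtain ⟨w, hw, hwe⟩ := L.cr_T_smul c F a (i := 1) (by decide)
    exact ⟨y, hy, e1 ▸ L.mem_of_cr c F hx' hw (e2.trans (ha.trans hwe.symm))⟩
  have hzt : ∀ u : ↥Q, val u * val u ∈ tri f → val u * val u = 1 := fun u hu => by
    rcases (c.mdl.ker (u * u)).1 (by rw [c.mdl.pi_mul, vadd_self]) with e | e
    · exact e
    · exact absurd ((show val u * val u = z from e) ▸ hu) (F.z_notMem c)
  have hk2 : L.hom c F ⟨g, hg⟩ * L.hom c F ⟨g, hg⟩ = 1 := by
    rw [← map_mul, L.hom_eq_one c F]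
    rcases (F.mem_tri c).1 hg2 with e | e | e | e
    · exact ⟨1, e.symm⟩
    · obtain ⟨u, hu, -⟩ := L.rep; exact ⟨u, hu.trans e.symm⟩
    · obtain ⟨u, hu, -⟩ := L.rep' c F; exact ⟨u, hu.trans e.symm⟩
    · obtain ⟨u, hu, -⟩ := F.inner_pi 0 1 3 (by decide); exact ⟨u, hu.trans e.symm⟩
  by_cases hk1 : L.hom c F ⟨g, hg⟩ = 1
  · obtain ⟨j, rfl⟩ := (L.hom_eq_one c F).1 hk1
    exact caseQ j ((L.val_mem c F).1 hg.1) (hzt j hg2)
  -- move the image to the image of an element of `A`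
  have move : ∀ a ∈ A, ∀ hka : imK Q a ∈ Ab, ∀ y₀ : SU4,
      y₀ * L.hom c F ⟨g, hg⟩ * y₀⁻¹ = ρ ⟨imK Q a, L.Ab_fixed c F hka⟩ →
      ∃ y ∈ triH z f, ∃ j : ↥Q, val j ∈ triH z f ∧ y * g * y⁻¹ = a * val j := by
    intro a ha hka y₀ hy₀
    obtain ⟨⟨y, hy⟩, rfl⟩ := L.hom_surj c F y₀
    have hmem : a * (y * g * y⁻¹) ∈ triH z f := mul_mem (hAH ha) (mul_mem (mul_mem hy hg) (inv_mem hy))
    have h1 : L.hom c F ⟨_, hmem⟩ = 1 := by
      have e : (⟨_, hmem⟩ : ↥(triH z f)) = ⟨a, hAH ha⟩ * (⟨y, hy⟩ * ⟨g, hg⟩ * (⟨y, hy⟩ : ↥(triH z f))⁻¹) := rfl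
      rw [e, map_mul, map_mul, map_mul, map_inv, hy₀]
      exact L.rho_sq c F hka
    obtain ⟨j, hj⟩ := (L.hom_eq_one c F).1 h1
    refine ⟨y, hy, j, hj ▸ hmem, ?_⟩
    rw [hj, ← mul_assoc, c.sq ha, one_mul]
  -- squares after the move
  have hsq : ∀ y ∈ triH z f, y * g * y⁻¹ * (y * g * y⁻¹) ∈ tri f := fun y hy => by
    rw [show y * g * y⁻¹ * (y * g * y⁻¹) = y * (g * g) * y⁻¹ by group,
      ← (mem_centralizer_iff.1 (mem_inf.1 hy).1 _ hg2), mul_inv_cancel_right]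
    exact hg2
  have hdiff : ∀ a ∈ A, ∀ j : ↥Q, ∃ w : ↥Q, val w = a * val j * a⁻¹ * val j ∧ π w = imK Q a • π j + π j := by
    intro a ha j
    obtain ⟨j', hj', hp⟩ := c.pi_conj ⟨a, c.le ha⟩ j
    refine ⟨j' * j, ?_, ?_⟩
    · show val j' * val j = _; rw [hj']
    · rw [c.mdl.pi_mul, hp, imK_eq (c.le ha)]
  rcases SUFour.kinds card_F4' hk2 hk1 with ⟨r, hr⟩ | h2
  · obtain ⟨y₀, hy₀⟩ := hr.exists_conj card_F4' (L.kT_pt c F (i := 1) (by decide))
    have himτ : imK Q (tau f (1, 0)) = kT Q f 1 := L.im_tau c F (by decide)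
    have hkA : imK Q (tau f (1, 0)) ∈ Ab := himτ ▸ (L.kT_mem c F (i := 1) (by decide)).1
    obtain ⟨y, hy, j, hj, hyj⟩ := move _ (F.tau_mem c (1, 0)) hkA y₀ (hy₀.trans (congrArg ρ (Subtype.ext himτ.symm)))
    have hjW : π j ∈ Wsp q n v := (L.val_mem c F).1 hj.1
    set τ := tau f (1, 0) with hτ
    have hτ1 : τ⁻¹ = τ := c.inv (F.tau_mem c _)
    obtain ⟨w, hw, hpw⟩ := hdiff τ (F.tau_mem c _) j
    have hwt : val w ∈ tri f := by
      have h := hsq y hy
      rw [hyj] at h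
      rw [hw, hτ1]
      simpa only [mul_assoc] using h
    have hwl : π w ∈ ln n v := by
      obtain ⟨u, hu, huv⟩ := L.rep
      obtain ⟨u', hu', hu'l, -, -⟩ := L.rep' c F
      obtain ⟨u'', hu'', -, hu''l⟩ := F.inner_pi 0 1 3 (by decide)
      have hvi : ∀ x : ↥Q, val w = val x → π w = π x := fun x e => congrArg π (Subtype.ext (Subtype.ext e))
      rcases (F.mem_tri c).1 hwt with e | e | e | e
      · rw [hvi 1 e, c.mdl.pi_one]; exact Or.inl rfl
      · rw [hvi u (e.trans hu.symm), huv]; exact Or.inr (Or.inl rfl)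
      · rw [hvi u' (e.trans hu'.symm)]; exact hu'l
      · rw [hvi u'' (e.trans hu''.symm), L.line]; exact hu''l
    rw [himτ] at hpw
    obtain ⟨hW', e'⟩ := L.dN_cr c F (L.Ab_fixed c F (L.kT_mem c F (i := 1) (by decide)).1) ⟨π j, hjW⟩
    have hzero : dN (ρ ⟨kT Q f 1, L.Ab_fixed c F (L.kT_mem c F (i := 1) (by decide)).1⟩) (cr ⟨π j, hjW⟩) = 0 := by
      rw [e', L.ker]
      have h := hwl
      rw [hpw] at h
      exact h
    have hperp : hh (cr ⟨π j, hjW⟩) (cr ⟨T 1, L.fix_le c F (L.T_fix c F 1)⟩) = 0 := by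
      have hp := L.kT_pt c F (i := 1) (by decide)
      rw [dN_eq card_F4', hp.2, add_comm, ← add_assoc, CfsgLib.SURadical.vadd_self card_F4', zero_add] at hzero
      exact (smul_eq_zero.1 hzero).resolve_right hp.1.1
    have hcomm := L.tau_comm c F (d := (1, 0)) (by decide) (b := j) (L.kT_fixes c F (by decide) hperp)
    have hj2 : val j * val j = 1 := by
      refine hzt j ?_
      have h := hsq y hy
      rw [hyj] at h
      rwa [show τ * val j * (τ * val j) = val j * val j by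
        rw [mul_assoc, ← mul_assoc (val j), hcomm, mul_assoc, ← mul_assoc τ, L.tau_sq c F, one_mul]] at h
    by_cases hin : ∃ a : F4, cr ⟨π j, hjW⟩ = a • cr ⟨T 1, L.fix_le c F (L.T_fix c F 1)⟩
    · obtain ⟨a, ha⟩ := hin
      obtain ⟨w', hw', hwe⟩ := L.cr_T_smul c F a (i := 1) (by decide)
      exact ⟨y, hy, hyj ▸ mul_mem (F.tau_mem c _) (L.mem_of_cr c F hjW hw' (ha.trans hwe.symm))⟩
    simp only [not_exists] at hin
    have hiso : Isot 2 (cr ⟨π j, hjW⟩) :=
      ⟨fun e => hin 0 (by rw [e, zero_smul]),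
        by rw [L.herm, (c.mdl.sq j).2 (Subtype.ext (Subtype.ext hj2)), map_zero]⟩
    obtain ⟨P, hP2, hPr, hP1, hPj⟩ := SUFour.exists_plane card_F4' (L.cr_T_isot c F (i := 1) (by decide)) hiso
      ((CfsgLib.SURadical.comm_zero card_F4').1 hperp) hin
    obtain ⟨hk, hk2', hkF⟩ := L.other_plane c F (a := (1, 0)) (b := (2, 0)) (by decide) (by decide) (by decide)
    obtain ⟨y₁, -, hy₁⟩ := SUFour.plane_conj card_F4' hP2 (L.rho_sq c F hk) hPr hk2'
    obtain ⟨⟨y', hy'⟩, rfl⟩ := L.hom_surj c F y₁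
    obtain ⟨w₁, hw₁, hwe₁⟩ := hkF _ (hy₁ _ hP1)
    obtain ⟨w₂, hw₂, hwe₂⟩ := hkF _ (hy₁ _ hPj)
    obtain ⟨i, hi, a, hia⟩ := L.exists_point c F hw₁
    have ha0 : a ≠ 0 := fun e => (Isot.act _ (L.cr_T_isot c F (i := 1) (by decide))).1 (by
      rw [← hwe₁, hia, e, zero_smul])
    have hτim : imK Q (y' * τ * y'⁻¹) = kT Q f i := by
      have hm : y' * τ * y'⁻¹ ∈ triH z f := mul_mem (mul_mem hy' (hAH (F.tau_mem c _))) (inv_mem hy')
      have h1 : L.hom c F ⟨_, hm⟩ = ρ ⟨kT Q f i, L.Ab_fixed c F (L.kT_mem c F hi).1⟩ := by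
        rw [show (⟨_, hm⟩ : ↥(triH z f)) = ⟨y', hy'⟩ * ⟨τ, hAH (F.tau_mem c _)⟩ * (⟨y', hy'⟩ : ↥(triH z f))⁻¹ from rfl,
          map_mul, map_mul, map_inv]
        have h2 := (L.kT_pt c F (i := 1) (by decide)).conj (L.hom c F ⟨y', hy'⟩)
        rw [← hwe₁, hia] at h2
        rw [show L.hom c F ⟨τ, hAH (F.tau_mem c _)⟩ =
          ρ ⟨kT Q f 1, L.Ab_fixed c F (L.kT_mem c F (i := 1) (by decide)).1⟩ from congrArg ρ (Subtype.ext himτ)]
        exact h2.unique card_F4' ((L.kT_pt c F hi).smul card_F4' ha0)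
      exact congrArg Subtype.val (ρ.injective h1)
    obtain ⟨j', hj', e1, e2⟩ := L.hom_act c F ⟨y', hy'⟩ hjW
    have hjA : val j' ∈ A := L.mem_of_cr c F hj' hw₂ (e2.trans hwe₂.symm)
    refine ⟨y' * y, mul_mem hy' hy, ?_⟩
    rw [show y' * y * g * (y' * y)⁻¹ = y' * (y * g * y⁻¹) * y'⁻¹ by group, hyj,
      show y' * (τ * val j) * y'⁻¹ = y' * τ * y'⁻¹ * (y' * val j * y'⁻¹) by group]
    exact mul_mem (L.tau_conj_mem c F hy' (d := (1, 0)) (by decide) hi hτim) (e1 ▸ hjA)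
  · obtain ⟨hk, hk2', hkF⟩ := L.other_plane c F (a := (1, 0)) (b := (2, 0)) (by decide) (by decide) (by decide)
    obtain ⟨y₀, hy₀, -⟩ := SUFour.plane_conj card_F4' hk2 (L.rho_sq c F hk) h2 hk2'
    set a := f (1, 0) * f (2, 0) with hadef
    have haA : a ∈ A := mul_mem (F.mem _) (F.mem _)
    obtain ⟨y, hy, j, hj, hyj⟩ := move a haA hk y₀ hy₀
    have hjW : π j ∈ Wsp q n v := (L.val_mem c F).1 hj.1
    refine ⟨y, hy, hyj ▸ mul_mem haA ?_⟩
    obtain ⟨w, hw, hpw⟩ := hdiff a haA j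
    have hwt : val w ∈ tri f := by
      have h := hsq y hy
      rw [hyj] at h
      rw [hw, c.inv haA]
      simpa only [mul_assoc] using h
    have hwl : π w ∈ ln n v := by
      obtain ⟨u, hu, huv⟩ := L.rep
      obtain ⟨u', hu', hu'l, -, -⟩ := L.rep' c F
      obtain ⟨u'', hu'', -, hu''l⟩ := F.inner_pi 0 1 3 (by decide)
      have hvi : ∀ x : ↥Q, val w = val x → π w = π x := fun x e => congrArg π (Subtype.ext (Subtype.ext e))
      rcases (F.mem_tri c).1 hwt with e | e | e | e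
      · rw [hvi 1 e, c.mdl.pi_one]; exact Or.inl rfl
      · rw [hvi u (e.trans hu.symm), huv]; exact Or.inr (Or.inl rfl)
      · rw [hvi u' (e.trans hu'.symm)]; exact hu'l
      · rw [hvi u'' (e.trans hu''.symm), L.line]; exact hu''l
    obtain ⟨hW', e'⟩ := L.dN_cr c F (L.Ab_fixed c F hk) ⟨π j, hjW⟩
    have hzero : dN (ρ ⟨_, L.Ab_fixed c F hk⟩) (cr ⟨π j, hjW⟩) = 0 := by
      rw [e', L.ker]
      have h := hwl
      rw [hpw] at h
      exact h
    have hker : LinearMap.ker (dN (ρ ⟨_, L.Ab_fixed c F hk⟩)) = LinearMap.range (dN (ρ ⟨_, L.Ab_fixed c F hk⟩)) := by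
      refine (Submodule.eq_of_le_of_finrank_le ?_ ?_).symm
      · rintro _ ⟨x, rfl⟩
        exact SUFour.dN_dN card_F4' (L.rho_sq c F hk) x
      · have := LinearMap.finrank_range_add_finrank_ker (dN (ρ ⟨_, L.Ab_fixed c F hk⟩))
        rw [Module.finrank_fin_fun, hk2'] at this
        rw [hk2']
        omega
    obtain ⟨x, hx, hxe⟩ := hkF _ (hker ▸ (LinearMap.mem_ker.2 hzero))
    exact L.mem_of_cr c F hjW hx hxe.symm

end Loc

end CfsgLib.LargeFischer.Thompson
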