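import Cfsg.Agent.Lib.LargeFischer.FourCent.Loc

/-!
# The image of the fixed space is a totally isotropic line; transvections and plane involutions in the image of `A`
-/

set_option autoImplicit false
set_option linter.unusedSectionVars false
set_option linter.style.haveILetI false

namespace CfsgLib.LargeFischer.Thompson

open Subgroup QuadraticMap
open CfsgLib.Schur.Tails.UFour (H4)
open CfsgLib.LargeFischer.Core (Wsp)
open CfsgLib.SURadical (IsPt)
open CfsgLib.PSUAut (Isot act)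
open CfsgLib.LargeFischer.SUFour (dN dN_apply dN_eq)

variable {G : Type*} [Group G] [Finite G] {z : G}
  {Q : Subgroup (centralizer ({z} : Set G))} [Q.Normal] {V : Type*} [AddCommGroup V] [Module (ZMod 2) V]
  [DistribMulAction ((centralizer ({z} : Set G)) ⧸ Q) V] [Finite V] {q : QuadraticForm (ZMod 2) V} {π : ↥Q → V}
  {n : (centralizer ({z} : Set G)) ⧸ Q} {M : Subgroup ((centralizer ({z} : Set G)) ⧸ Q)} {φ : ↥M →* ↥H4}
  {s : V} {E : Subgroup ((centralizer ({z} : Set G)) ⧸ Q)} {D : AddSubgroup V}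
  {A : Subgroup G} {Ab : Subgroup ((centralizer ({z} : Set G)) ⧸ Q)}
  {T : Fin 6 → V} {f : P24 → G}

local notation "V4" => Fin 4 → F4
local notation "SU4" => (Cfsg.SU 4 F4 2)
local notation "hh" => Cfsg.hermForm 4 F4 2

/-- The element of the quotient of a tetrad through the triangle. -/
noncomputable abbrev kT (Q : Subgroup (centralizer ({z} : Set G))) [Q.Normal] (f : P24 → G) (i : Fin 6) :
    (centralizer ({z} : Set G)) ⧸ Q := imK Q (f (0, 0) * f (i, 0))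

namespace Loc

variable {v : V} {cr : ↥(Wsp q n v) →+ (Fin 4 → F4)}
  {ρ : ↥(MulAction.stabilizer ((centralizer ({z} : Set G)) ⧸ Q) v ⊓ M) ≃* ↥(Cfsg.SU 4 F4 2)}
  (L : Loc q π n M T f v cr ρ) (c : Ctx Q q π n M φ s E D A Ab) (F : Frame π n Ab s A T f)
include L c F

theorem T_fix (i : Fin 6) : T i ∈ (fixSub Ab : AddSubgroup V) := (F.T_mem i).1

theorem T_notMem {i : Fin 6} (hi : i ≠ 0) : T i ∉ ln n v := fun h =>
  hi (F.T_indep 0 i (L.line ▸ h)).symm

theorem T_rep (i : Fin 6) : ∃ h : T i ∈ Wsp q n v, cr ⟨T i, h⟩ = cr ⟨T i, h⟩ := ⟨L.fix_le c F (L.T_fix c F i), rfl⟩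

theorem Ab_fixed {k : (centralizer ({z} : Set G)) ⧸ Q} (hk : k ∈ Ab) :
    k ∈ MulAction.stabilizer ((centralizer ({z} : Set G)) ⧸ Q) v ⊓ M :=
  mem_inf.2 ⟨L.v_fix c F k hk, c.oth.le hk⟩

theorem imK_tau {d : P24} (hd : d.1 ≠ 0) : imK Q (tau f d) = imK Q (f (0, 0) * f d) := by
  have e : tau f d = z * (f (0, 0) * f d) := by
    rw [← F.tau_zero c, tau, tau]
    calc f (0, 1) * f (0, 2) * f (0, 3) * f d
        = f (0, 1) * f (0, 2) * f (0, 3) * (f (0, 0) * f (0, 0)) * f d := by rw [F.sq c, mul_one]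
      _ = _ := by simp only [mul_assoc]
  obtain ⟨z₀, hz₀, -⟩ := c.z_val
  have h1 : imK Q z = 1 := (congrArg (imK Q) hz₀).symm.trans (imK_val z₀)
  rw [e, imK_mul (mem_centralizer_singleton_iff.2 rfl) (c.le (mul_mem (F.mem _) (F.mem _))), h1, one_mul]

theorem im_cell {i : Fin 6} (hi : i ≠ 0) (a : Fin 4) : imK Q (f (0, 0) * f (i, a)) = kT Q f i := by
  obtain ⟨hk, hk1, h0, hi'⟩ := F.outer_im (0, 0) (i, a) hi.symm
  exact F.im_uniq _ hk hk1 (0, 0) (i, 0) hi.symm h0 hi'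

theorem kT_mem {i : Fin 6} (hi : i ≠ 0) : kT Q f i ∈ Ab ∧ kT Q f i ≠ 1 ∧
    T 0 ∈ (rg (kT Q f i) : AddSubgroup V) ∧ T i ∈ (rg (kT Q f i) : AddSubgroup V) := F.outer_im (0, 0) (i, 0) hi.symm

theorem kT_inj {i j : Fin 6} (hi : i ≠ 0) (hj : j ≠ 0) (h : kT Q f i = kT Q f j) : i = j := by
  by_contra hij
  obtain ⟨hk, hk1, -, hTi⟩ := L.kT_mem c F hi
  obtain ⟨-, -, -, hTj⟩ := L.kT_mem c F hj
  obtain ⟨-, hm1, -, -⟩ := F.outer_im (0, 0) (j, 0) hj.symm
  have e := F.im_uniq _ hk hk1 (i, 0) (j, 0) hij hTi (h ▸ hTj)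
  have hc : ∀ p q : P24, f p * f q ∈ centralizer ({z} : Set G) := fun p q => c.le (mul_mem (F.mem p) (F.mem q))
  have e2 : imK Q (f (0, 0) * f (j, 0)) = imK Q (f (0, 0) * f (i, 0)) * imK Q (f (i, 0) * f (j, 0)) := by
    rw [← imK_mul (hc _ _) (hc _ _), mul_assoc, ← mul_assoc (f (i, 0)), F.sq c, one_mul]
  rw [← e] at e2
  apply hm1
  rw [e2]
  exact (pow_two _).symm.trans (c.oth.elem.2 _ hk)

theorem rg_le_W {k : (centralizer ({z} : Set G)) ⧸ Q} (hk : k ∈ Ab) {x : V}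
    (hx : x ∈ (rg k : AddSubgroup V)) : x ∈ Wsp q n v := L.fix_le c F (c.oth.rg_le hk hx)

/-- The commutator space of a tetrad element. -/
theorem rg_kT {i : Fin 6} (hi : i ≠ 0) :
    ((rg (kT Q f i) : AddSubgroup V) : Set V) = span2 n (T 0) (T i) := by
  classical
  obtain ⟨hk, hk1, h0, hTi⟩ := L.kT_mem c F hi
  have hsub : span2 n (T 0) (T i) ⊆ ((rg (kT Q f i) : AddSubgroup V) : Set V) := by
    rintro _ ⟨⟨a, b⟩, ⟨ha, hb⟩, rfl⟩
    exact add_mem (c.oth.ln_subset (fun _ => c.oth.rg_n hk) h0 ha) (c.oth.ln_subset (fun _ => c.oth.rg_n hk) hTi hb)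
  have h16 := (c.coset_struct (k := kT Q f i) hk1 (a := f (0, 0) * f (i, 0))
    ⟨F.pair _ _ (by simp [Prod.ext_iff, hi.symm]), rfl⟩).1
  refine (Set.eq_of_subset_of_ncard_le hsub ?_ (Set.toFinite _)).symm
  rw [← Nat.card_coe_set_eq, SetLike.coe_sort_coe, h16,
    show (span2 n (T 0) (T i)).ncard = 16 from c.oth.span_two (F.T_mem 0).2.1 fun h => hi (F.T_indep 0 i h).symm]

theorem cr_ln {i : Fin 6} {x : ↥(Wsp q n v)} (hx : (x : V) ∈ ln n (T i)) :
    ∃ a : F4, cr x = a • cr ⟨T i, L.fix_le c F (L.T_fix c F i)⟩ := by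
  have hn : ∀ y ∈ Wsp q n v, y ∈ (fixSub Ab : AddSubgroup V) → n • y ∈ Wsp q n v :=
    fun y _ hy => L.fix_le c F (c.oth.facts.2.2.1 _ hy)
  set t : ↥(Wsp q n v) := ⟨T i, L.fix_le c F (L.T_fix c F i)⟩
  set t' : ↥(Wsp q n v) := ⟨n • T i, hn _ t.2 (L.T_fix c F i)⟩
  obtain ⟨a, ha⟩ := L.nline t t' rfl
  rcases hx with e | e | e | e
  · exact ⟨0, by rw [show x = 0 from Subtype.ext e, map_zero, zero_smul]⟩
  · exact ⟨1, by rw [show x = t from Subtype.ext e, one_smul]⟩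
  · exact ⟨a, by rw [show x = t' from Subtype.ext e, ha]⟩
  · obtain ⟨b, hb⟩ := L.nline t' x e
    exact ⟨b * a, by rw [hb, ha, smul_smul]⟩

theorem cr_T_isot {i : Fin 6} (hi : i ≠ 0) : Isot 2 (cr ⟨T i, L.fix_le c F (L.T_fix c F i)⟩) := by
  refine ⟨fun e => L.T_notMem c F hi ((L.ker _).1 e), ?_⟩
  rw [L.herm, show q (T i) = 0 from c.oth.facts.1 _ (L.T_fix c F i), map_zero]

theorem cr_rg {i : Fin 6} (hi : i ≠ 0) {x : ↥(Wsp q n v)} (hx : (x : V) ∈ (rg (kT Q f i) : AddSubgroup V)) :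
    ∃ a : F4, cr x = a • cr ⟨T i, L.fix_le c F (L.T_fix c F i)⟩ := by
  obtain ⟨⟨y, w⟩, ⟨hy, hw⟩, e⟩ : (x : V) ∈ span2 n (T 0) (T i) := L.rg_kT c F hi ▸ hx
  have hyW : y ∈ Wsp q n v := L.fix_le c F (L.ln_le c F (L.line.symm ▸ hy))
  have hwW : w ∈ Wsp q n v :=
    L.fix_le c F (c.oth.ln_subset (fun _ h => c.oth.facts.2.2.1 _ h) (L.T_fix c F i) hw)
  obtain ⟨a, ha⟩ := L.cr_ln c F (i := i) (x := ⟨w, hwW⟩) hw
  refine ⟨a, ?_⟩
  rw [show x = ⟨y, hyW⟩ + ⟨w, hwW⟩ from Subtype.ext e.symm, map_add, (L.ker ⟨y, hyW⟩).2 (L.line.symm ▸ hy), zero_add, ha]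

theorem dN_cr {k : (centralizer ({z} : Set G)) ⧸ Q} (hk : k ∈ MulAction.stabilizer ((centralizer ({z} : Set G)) ⧸ Q) v ⊓ M)
    (x : ↥(Wsp q n v)) : ∃ h : k • (x : V) + x ∈ Wsp q n v, dN (ρ ⟨k, hk⟩) (cr x) = cr ⟨k • (x : V) + x, h⟩ := by
  have hkx : k • (x : V) ∈ Wsp q n v := by
    have e1 : k • v = v := hk.1
    have e2 : k • n • v = n • v := by rw [← mul_smul, c.mdl.core.commute hk.2, mul_smul, e1]
    exact ⟨(congrArg (fun y => polar q (k • (x : V)) y) e1.symm).trans (by rw [c.mdl.core.polar_smul]; exact x.2.1),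
      (congrArg (fun y => polar q (k • (x : V)) y) e2.symm).trans (by rw [c.mdl.core.polar_smul]; exact x.2.2)⟩
  refine ⟨add_mem hkx x.2, ?_⟩
  rw [dN_eq card_F4', ← L.equiv ⟨k, hk⟩ x ⟨_, hkx⟩ rfl, ← map_add]
  rfl

theorem rho_sq {k : (centralizer ({z} : Set G)) ⧸ Q} (hk : k ∈ Ab) :
    ρ ⟨k, L.Ab_fixed c F hk⟩ * ρ ⟨k, L.Ab_fixed c F hk⟩ = 1 := by
  rw [← map_mul, map_eq_one_iff ρ ρ.injective]
  exact Subtype.ext ((pow_two k).symm.trans (c.oth.elem.2 k hk))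

theorem rho_ne {k : (centralizer ({z} : Set G)) ⧸ Q} (hk : k ∈ Ab) (hk1 : k ≠ 1) : ρ ⟨k, L.Ab_fixed c F hk⟩ ≠ 1 :=
  fun e => hk1 (congrArg Subtype.val ((map_eq_one_iff ρ ρ.injective).1 e))

/-- The tetrad elements are transvections at the points of the line. -/
theorem kT_pt {i : Fin 6} (hi : i ≠ 0) : IsPt (ρ ⟨kT Q f i, L.Ab_fixed c F (L.kT_mem c F hi).1⟩)
    (cr ⟨T i, L.fix_le c F (L.T_fix c F i)⟩) := by
  obtain ⟨hk, hk1, -, -⟩ := L.kT_mem c F hi
  refine SUFour.pt_of_range card_F4' (L.rho_sq c F hk) (L.rho_ne c F hk hk1) (L.cr_T_isot c F hi) fun y => ?_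
  obtain ⟨x, rfl⟩ := L.surj y
  obtain ⟨h, e⟩ := L.dN_cr c F (L.Ab_fixed c F hk) x
  rw [← dN_eq card_F4', e]
  exact L.cr_rg c F hi ⟨x, rfl⟩

theorem T_line_inj {i j : Fin 6} (hi : i ≠ 0) (hj : j ≠ 0) {a : F4}
    (h : cr ⟨T j, L.fix_le c F (L.T_fix c F j)⟩ = a • cr ⟨T i, L.fix_le c F (L.T_fix c F i)⟩) : i = j := by
  have h0 : a ≠ 0 := fun e => (L.cr_T_isot c F hj).1 (by rw [h, e, zero_smul])
  have h1 := (L.kT_pt c F hi).smul card_F4' h0
  rw [← h] at h1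
  have e := ρ.injective ((L.kT_pt c F hj).unique card_F4' h1)
  exact (L.kT_inj c F hj hi (congrArg Subtype.val e)).symm

/-- Every vector of the image of the fixed space lies on one of the five points. -/
theorem exists_point {x : ↥(Wsp q n v)} (hx : (x : V) ∈ (fixSub Ab : AddSubgroup V)) :
    ∃ i, i ≠ 0 ∧ ∃ a : F4, cr x = a • cr ⟨T i, L.fix_le c F (L.T_fix c F i)⟩ := by
  classical
  letI := Fintype.ofFinite V
  let S : AddSubgroup ↥(Wsp q n v) := (fixSub Ab : AddSubgroup V).comap (Wsp q n v).subtype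
  let g : ↥S →+ V4 := cr.comp S.subtype
  have hScard : Nat.card ↥S = 64 := by
    refine Eq.trans (Nat.card_congr ?_) c.oth.facts.2.1
    exact ⟨fun y => ⟨((y : ↥(Wsp q n v)) : V), y.2⟩, fun y => ⟨⟨y, L.fix_le c F y.2⟩, y.2⟩,
      fun y => rfl, fun y => rfl⟩
  have hker : Nat.card ↥g.ker = 4 := by
    refine Eq.trans (Nat.card_congr ?_) ((Nat.card_coe_set_eq _).trans (c.oth.ln_ncard L.ne))
    exact ⟨fun y => ⟨(((y : ↥S) : ↥(Wsp q n v)) : V), (L.ker _).1 y.2⟩,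
      fun y => ⟨⟨⟨y, L.fix_le c F (L.ln_le c F y.2)⟩, L.ln_le c F y.2⟩, (L.ker _).2 y.2⟩, fun y => rfl, fun y => rfl⟩
  have hrange : Nat.card ↥g.range = 16 := by
    have h := g.ker.card_mul_index
    rw [AddSubgroup.index_ker, hker, hScard] at h
    omega
  let pts : {a : F4 // a ≠ 0} × {i : Fin 6 // i ≠ 0} → {y : ↥g.range // y ≠ 0} := fun p =>
    ⟨⟨(p.1 : F4) • cr ⟨T p.2, L.fix_le c F (L.T_fix c F p.2)⟩, by
      have hcl : ∀ a : F4, ∀ y : ↥(Wsp q n v), (y : V) ∈ (fixSub Ab : AddSubgroup V) → a • cr y ∈ g.range := by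
        intro a y hy
        set y' : ↥(Wsp q n v) := ⟨n • (y : V), L.fix_le c F (c.oth.facts.2.2.1 _ hy)⟩
        obtain ⟨b, hb⟩ := L.nline y y' rfl
        have hy0 : cr y ∈ g.range := ⟨⟨y, hy⟩, rfl⟩
        by_cases hy1 : cr y = 0
        · rw [hy1, smul_zero]; exact zero_mem _
        have hb' : cr y' ∈ g.range := ⟨⟨y', c.oth.facts.2.2.1 _ hy⟩, rfl⟩
        have hb0 : b ≠ 0 := fun e => by
          rw [e, zero_smul, L.ker] at hb
          have h2 := c.oth.ln_smul (c.oth.ln_smul hb)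
          rw [show n • n • (y' : V) = (y : V) from c.mdl.core.smul_n_three _] at h2
          exact hy1 ((L.ker y).2 h2)
        have hb1 : b ≠ 1 := fun e => by
          rw [e, one_smul] at hb
          have h2 : cr (y' + y) = 0 := by
            rw [map_add, hb]; exact CfsgLib.SURadical.vadd_self card_F4' _
          rw [L.ker, AddSubgroup.coe_add] at h2
          have h3 : n • n • (y : V) ∈ ln n v := by rw [← c.oth.n_sum, add_comm]; exact h2
          have h4 := c.oth.ln_smul h3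
          rw [c.mdl.core.smul_n_three] at h4
          exact hy1 ((L.ker y).2 h4)
        obtain ⟨w, hw0, hw1, hww, hall⟩ := CfsgLib.SURadical.exists_omega (F := F4) card_F4'
        have hw2 : w ^ 2 = w + 1 := by
          linear_combination hww - CfsgLib.SURadical.add_self card_F4' w - CfsgLib.SURadical.add_self card_F4' (1 : F4)
        rcases hall a with ea | ea | ea | ea <;> rw [ea]
        · rw [zero_smul]; exact zero_mem _
        · rw [one_smul]; exact hy0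
        all_goals
          rcases hall b with e | e | e | e
          · exact absurd e hb0
          · exact absurd e hb1
          all_goals
            rw [e] at hb
        · exact hb ▸ hb'
        · have e2 : (w : F4) • cr y = cr y' + cr y := by
            rw [hb, hw2, add_smul, one_smul, add_assoc, CfsgLib.SURadical.vadd_self card_F4', add_zero]
          rw [e2]; exact add_mem hb' hy0
        · have e2 : w ^ 2 • cr y = cr y' + cr y := by rw [hb, hw2, add_smul, one_smul]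
          rw [e2]; exact add_mem hb' hy0
        · exact hb ▸ hb'
      exact hcl _ _ (L.T_fix c F p.2)⟩, fun e => smul_ne_zero p.1.2 (L.cr_T_isot c F p.2.2).1 (congrArg Subtype.val e)⟩
  have hinj : Function.Injective pts := by
    rintro ⟨⟨a, ha⟩, ⟨i, hi⟩⟩ ⟨⟨b, hb⟩, ⟨j, hj⟩⟩ e
    have e' : a • cr ⟨T i, L.fix_le c F (L.T_fix c F i)⟩ = b • cr ⟨T j, L.fix_le c F (L.T_fix c F j)⟩ :=
      congrArg (fun y : {y : ↥g.range // y ≠ 0} => ((y : ↥g.range) : V4)) e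
    have hij : i = j := L.T_line_inj c F hi hj (a := b⁻¹ * a) (by
      rw [← smul_smul, e', smul_smul, inv_mul_cancel₀ hb, one_smul])
    subst hij
    have := smul_left_injective F4 (L.cr_T_isot c F hi).1 e'
    subst this
    rfl
  have hsurj : Function.Surjective pts := by
    refine (Nat.bijective_iff_injective_and_card _).2 ⟨hinj, ?_⟩ |>.2
    have hc : ∀ {α : Type} [Finite α] (a : α), Nat.card {y : α // y ≠ a} = Nat.card α - 1 := fun {α} _ a => by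
      letI := Fintype.ofFinite α
      rw [Nat.card_eq_fintype_card, Nat.card_eq_fintype_card, Fintype.card_subtype_compl, Fintype.card_subtype_eq]
    rw [Nat.card_prod, hc (0 : F4), hc (0 : Fin 6), hc (0 : ↥g.range), hrange, Nat.card_fin,
      Nat.card_eq_fintype_card, card_F4']
    norm_num
  by_cases hx0 : cr x = 0
  · exact ⟨1, by decide, 0, by rw [hx0, zero_smul]⟩
  obtain ⟨⟨⟨a, _ha⟩, ⟨i, hi⟩⟩, e⟩ := hsurj ⟨⟨cr x, ⟨⟨x, hx⟩, rfl⟩⟩, fun e => hx0 (congrArg Subtype.val e)⟩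
  exact ⟨i, hi, a, (congrArg (fun y : {y : ↥g.range // y ≠ 0} => ((y : ↥g.range) : V4)) e).symm⟩

theorem fix_of_cr {x y : ↥(Wsp q n v)} (hy : (y : V) ∈ (fixSub Ab : AddSubgroup V)) (e : cr x = cr y) :
    (x : V) ∈ (fixSub Ab : AddSubgroup V) := by
  have h : (x - y : ↥(Wsp q n v)).1 ∈ ln n v := (L.ker _).1 (by rw [map_sub, e, sub_self])
  have h2 := add_mem (L.ln_le c F h) hy
  simpa using h2

/-- The vectors fixed by a tetrad element. -/
theorem kT_fixes {i : Fin 6} (hi : i ≠ 0) {x : ↥(Wsp q n v)}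
    (hx : hh (cr x) (cr ⟨T i, L.fix_le c F (L.T_fix c F i)⟩) = 0) : kT Q f i • (x : V) = x := by
  obtain ⟨hk, -, -, -⟩ := L.kT_mem c F hi
  refine eq_of_vadd (c.mdl.core.nondeg _ fun y => ?_)
  rw [c.oth.symm hk]
  obtain ⟨h, e⟩ : ∃ h : kT Q f i • y + y ∈ Wsp q n v, ∃ a : F4,
      cr ⟨_, h⟩ = a • cr ⟨T i, L.fix_le c F (L.T_fix c F i)⟩ :=
    ⟨L.rg_le_W c F hk ⟨y, rfl⟩, L.cr_rg c F hi ⟨y, rfl⟩⟩
  obtain ⟨a, ha⟩ := e
  have h1 := L.polar_em c F x ⟨_, h⟩
  rw [ha, CfsgLib.SURadical.smul_right card_F4', CfsgLib.SURadical.smul_left card_F4', hx,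
    (CfsgLib.SURadical.comm_zero card_F4').1 hx, mul_zero, mul_zero, add_zero] at h1
  exact em.injective (h1.symm.trans (map_zero em).symm)

/-- The other elements of the image of `A` are plane involutions with the line as commutator space. -/
theorem other_plane {a b : P24} (hab : a.1 ≠ b.1) (ha : a.1 ≠ 0) (hb : b.1 ≠ 0) :
    ∃ hk : imK Q (f a * f b) ∈ Ab,
      Module.finrank F4 (LinearMap.range (dN (ρ ⟨_, L.Ab_fixed c F hk⟩))) = 2 ∧
      ∀ y ∈ LinearMap.range (dN (ρ ⟨_, L.Ab_fixed c F hk⟩)),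
        ∃ x : ↥(Wsp q n v), (x : V) ∈ (fixSub Ab : AddSubgroup V) ∧ cr x = y := by
  obtain ⟨hk, hk1, hTa, hTb⟩ := F.outer_im a b hab
  refine ⟨hk, ?_, ?_⟩
  swap
  · rintro _ ⟨y, rfl⟩
    obtain ⟨x, rfl⟩ := L.surj y
    obtain ⟨h, e⟩ := L.dN_cr c F (L.Ab_fixed c F hk) x
    exact ⟨⟨_, h⟩, c.oth.rg_le hk ⟨x, rfl⟩, e.symm⟩
  rcases SUFour.kinds card_F4' (L.rho_sq c F hk) (L.rho_ne c F hk hk1) with ⟨r, hr⟩ | h
  swap
  · exact h
  exfalso
  -- a transvection here would be one of the five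
  obtain ⟨y, hy⟩ := LinearMap.mem_range.1
    (show r ∈ LinearMap.range (dN (ρ ⟨_, L.Ab_fixed c F hk⟩)) by
      rw [SUFour.isPt_range card_F4' hr]; exact Submodule.mem_span_singleton_self r)
  obtain ⟨x, rfl⟩ := L.surj y
  obtain ⟨h, e⟩ := L.dN_cr c F (L.Ab_fixed c F hk) x
  obtain ⟨i, hi, t, ht⟩ := L.exists_point c F (x := ⟨_, h⟩) (c.oth.rg_le hk ⟨x, rfl⟩)
  rw [← e, hy] at ht
  have ht0 : t ≠ 0 := fun e0 => hr.1.1 (by rw [ht, e0, zero_smul])
  have h1 := (L.kT_pt c F hi).smul card_F4' ht0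
  rw [← ht] at h1
  have e2 : imK Q (f a * f b) = kT Q f i := congrArg Subtype.val (ρ.injective (hr.unique card_F4' h1))
  obtain ⟨-, -, h0, hTi⟩ := L.kT_mem c F hi
  -- the commutator space would contain three lines
  have hmem : ∀ j, T j ∈ (rg (imK Q (f a * f b)) : AddSubgroup V) → j = 0 ∨ j = i := by
    intro j hj
    by_contra hne
    simp only [not_or] at hne
    refine hne.2 (L.kT_inj c F hi hne.1 ?_).symm
    exact F.im_uniq _ (L.kT_mem c F hi).1 (L.kT_mem c F hi).2.1 (0, 0) (j, 0) (Ne.symm hne.1) h0 (e2 ▸ hj)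
  rcases hmem _ hTa with h' | h' <;> rcases hmem _ hTb with h'' | h'' <;>
    first | exact ha h' | exact hb h'' | exact hab (h'.trans h''.symm)

end Loc

end CfsgLib.LargeFischer.Thompson
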