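import Cfsg.Agent.Lib.LargeFischer.FourCent.Tri
import Cfsg.Agent.Lib.LargeFischer.FourCent.Coords
import Cfsg.Agent.Lib.LargeFischer.FourCent.Invol

/-!
# The centraliser of `z` in the centraliser of the four-group, mapped onto `SU₄(2)`
-/

set_option autoImplicit false
set_option linter.unusedSectionVars false
set_option linter.style.haveILetI false

namespace CfsgLib.LargeFischer.Thompson

open Subgroup QuadraticMap
open CfsgLib.Schur.Tails.UFour (H4)
open CfsgLib.LargeFischer.Core (Wsp)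
open CfsgLib.SURadical (IsPt)
open CfsgLib.PSUAut (Isot act act_smul act_mul act_one act_add act_inv_apply act_apply_inv)
open CfsgLib.LargeFischer.SUFour (dN dN_apply dN_eq)

variable {G : Type*} [Group G] [Finite G] {z : G}
  {Q : Subgroup (centralizer ({z} : Set G))} [Q.Normal] {V : Type*} [AddCommGroup V] [Module (ZMod 2) V]
  [DistribMulAction ((centralizer ({z} : Set G)) ⧸ Q) V] [Finite V] {q : QuadraticForm (ZMod 2) V} {π : ↥Q → V}
  {n : (centralizer ({z} : Set G)) ⧸ Q} {M : Subgroup ((centralizer ({z} : Set G)) ⧸ Q)} {φ : ↥M →* ↥H4}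
  {s : V} {E : Subgroup ((centralizer ({z} : Set G)) ⧸ Q)} {D : AddSubgroup V}
  {A : Subgroup G} {Ab : Subgroup ((centralizer ({z} : Set G)) ⧸ Q)}
  {T : Fin 6 → V} {f : P24 → G}

local notation "V4" => Fin 4 → F4
local notation "SU4" => (Cfsg.SU 4 F4 2)
local notation "hh" => Cfsg.hermForm 4 F4 2

/-- The part of the centraliser of the four-group centralising `z`. -/
abbrev triH (z : G) (f : P24 → G) : Subgroup G := triC f ⊓ centralizer ({z} : Set G)

/-- The vector of the four-group and the coordinates of the space orthogonal to it. -/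
structure Loc (q : QuadraticForm (ZMod 2) V) (π : ↥Q → V) (n : (centralizer ({z} : Set G)) ⧸ Q)
    (M : Subgroup ((centralizer ({z} : Set G)) ⧸ Q)) (T : Fin 6 → V) (f : P24 → G) (v : V)
    (cr : ↥(Wsp q n v) →+ (Fin 4 → F4))
    (ρ : ↥(MulAction.stabilizer ((centralizer ({z} : Set G)) ⧸ Q) v ⊓ M) ≃* ↥(Cfsg.SU 4 F4 2)) : Prop where
  rep : ∃ u : ↥Q, val u = f (0, 1) * f (0, 2) ∧ π u = v
  ne : v ≠ 0
  line : ln n v = ln n (T 0)
  surj : Function.Surjective cr
  ker : ∀ x, cr x = 0 ↔ (x : V) ∈ ln n v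
  herm : ∀ x, Cfsg.hermForm 4 F4 2 (cr x) (cr x) = em (q (x : V))
  nline : ∀ x x' : ↥(Wsp q n v), (x' : V) = n • (x : V) → ∃ a : F4, cr x' = a • cr x
  equiv : ∀ (y : ↥(MulAction.stabilizer ((centralizer ({z} : Set G)) ⧸ Q) v ⊓ M)) (x x' : ↥(Wsp q n v)),
    (x' : V) = (y : (centralizer ({z} : Set G)) ⧸ Q) • (x : V) → cr x' = act (ρ y) (cr x)

namespace Frame

variable (c : Ctx Q q π n M φ s E D A Ab) (F : Frame π n Ab s A T f)
include c F

theorem exists_loc : ∃ v cr ρ, Loc q π n M T f v cr ρ := by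
  obtain ⟨u, hu, hu0, huT⟩ := F.inner_pi 0 1 2 (by decide)
  have hnc := c.ln_nc (F.T_mem 0) huT hu0
  have hq : q (π u) = 0 := c.oth.facts.1 _ hnc.1
  obtain ⟨cr, ρ, h1, h2, h3, h4, h5⟩ := c.mdl.core.rest_su c.oth.cen hq hu0 hnc.2.2
  refine ⟨π u, cr, ρ, ⟨u, hu, rfl⟩, hu0, ?_, h1, fun x => (h2 x).trans ?_, h3, h4, h5⟩
  · refine Set.eq_of_subset_of_ncard_le ?_ (by rw [c.oth.ln_ncard (F.T_mem 0).2.1, c.oth.ln_ncard hu0]) (Set.toFinite _)
    rintro y (rfl | rfl | rfl | rfl)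
    exacts [Or.inl rfl, huT, c.oth.ln_smul huT, c.oth.ln_smul (c.oth.ln_smul huT)]
  · rw [c.oth.n_sum (π u)]
    rfl

end Frame

namespace Loc

variable {v : V} {cr : ↥(Wsp q n v) →+ (Fin 4 → F4)}
  {ρ : ↥(MulAction.stabilizer ((centralizer ({z} : Set G)) ⧸ Q) v ⊓ M) ≃* ↥(Cfsg.SU 4 F4 2)}
  (L : Loc q π n M T f v cr ρ) (c : Ctx Q q π n M φ s E D A Ab) (F : Frame π n Ab s A T f)
include L c F

theorem v_fix : v ∈ (fixSub Ab : AddSubgroup V) :=
  c.oth.ln_subset (fun _ hw => c.oth.facts.2.2.1 _ hw) (F.T_mem 0).1 (L.line ▸ Or.inr (Or.inl rfl))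

theorem perp_iff {x : V} : x ∈ Wsp q n v ↔ ∀ w ∈ ln n v, polar q x w = 0 := by
  refine ⟨fun hx w hw => ?_, fun h => ⟨h v (Or.inr (Or.inl rfl)), h _ (Or.inr (Or.inr (Or.inl rfl)))⟩⟩
  rcases hw with rfl | rfl | rfl | rfl
  · exact polar_zero_right q x
  · exact hx.1
  · exact hx.2
  · rw [← c.oth.n_sum v, polar_add_right, hx.1, hx.2, add_zero]

theorem fix_le {x : V} (hx : x ∈ (fixSub Ab : AddSubgroup V)) : x ∈ Wsp q n v := by
  have h := (show x ∈ perpSub q (fixSub Ab : AddSubgroup V) by rw [c.oth.facts.2.2.2]; exact hx)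
  exact ⟨h v (L.v_fix c F), h _ (c.oth.facts.2.2.1 _ (L.v_fix c F))⟩

theorem ln_le {x : V} (hx : x ∈ ln n v) : x ∈ (fixSub Ab : AddSubgroup V) :=
  c.oth.ln_subset (fun _ hw => c.oth.facts.2.2.1 _ hw) (L.v_fix c F) hx

theorem polar_em (x y : ↥(Wsp q n v)) : hh (cr x) (cr y) + hh (cr y) (cr x) = em (polar q (x : V) (y : V)) := by
  have h1 := L.herm (x + y)
  rw [map_add, CfsgLib.SURadical.add_left card_F4', CfsgLib.SURadical.add_right card_F4',
    CfsgLib.SURadical.add_right card_F4', L.herm, L.herm, AddSubgroup.coe_add, q_add, map_add, map_add] at h1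
  linear_combination h1

/-- The second element of the four-group in `Q`. -/
theorem rep' : ∃ u : ↥Q, val u = f (0, 2) * f (0, 3) ∧ π u ∈ ln n v ∧ π u ≠ 0 ∧ π u ≠ v := by
  obtain ⟨u, hu, hv⟩ := L.rep
  obtain ⟨u', hu', h0, hT⟩ := F.inner_pi 0 2 3 (by decide)
  refine ⟨u', hu', L.line ▸ hT, h0, fun e => ?_⟩
  rcases c.mdl.pi_eq (x := u) (y := u') (hv.trans e.symm) with h | h
  · rw [show ((u' : centralizer ({z} : Set G)) : G) = val u' from rfl,
      show ((u : centralizer ({z} : Set G)) : G) = val u from rfl, hu, hu'] at h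
    rcases F.uniq c (by decide) (by decide) h.symm with ⟨h1, -⟩ | ⟨-, h2⟩
    · exact absurd h1 (by decide)
    · exact absurd h2 (by decide)
  · rw [show ((u' : centralizer ({z} : Set G)) : G) = val u' from rfl,
      show ((u : centralizer ({z} : Set G)) : G) = val u from rfl, hu, hu'] at h
    refine F.tri_not_conj c (show f (0, 1) * f (0, 3) ∈ tri f from (F.mem_tri c).2 (.inr (.inr (.inr rfl)))) ?_
    rw [show f (0, 1) * f (0, 3) = f (0, 1) * f (0, 2) * (f (0, 2) * f (0, 3)) by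
      rw [mul_assoc, ← mul_assoc (f (0, 2)), F.sq c, one_mul], h, ← mul_assoc,
      c.sq (mul_mem (F.mem _) (F.mem _)), one_mul]

theorem ln_of_pair {x : V} {a : V} (ha : a ∈ ln n v) (ha0 : a ≠ 0) (hav : a ≠ v) (h1 : polar q x v = 0)
    (h2 : polar q x a = 0) : x ∈ Wsp q n v := by
  refine ⟨h1, ?_⟩
  rcases ha with rfl | rfl | rfl | rfl
  · exact absurd rfl ha0
  · exact absurd rfl hav
  · exact h2
  · rwa [← c.oth.n_sum v, polar_add_right, h1, zero_add] at h2

/-- Membership of an element of `Q` in the centraliser of the four-group. -/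
theorem val_mem {x : ↥Q} : val x ∈ triC f ↔ π x ∈ Wsp q n v := by
  obtain ⟨u, hu, hv⟩ := L.rep
  obtain ⟨u', hu', hl, h0, hne⟩ := L.rep' c F
  rw [F.mem_triC c, ← hu, ← hu']
  constructor
  · rintro ⟨h1, h2⟩
    exact L.ln_of_pair c F hl h0 hne (hv ▸ (c.mdl.polar_iff x u).2 h1) ((c.mdl.polar_iff x u').2 h2)
  · intro hx
    exact ⟨(c.mdl.polar_iff x u).1 (hv.symm ▸ hx.1), (c.mdl.polar_iff x u').1 ((L.perp_iff c F).1 hx _ hl)⟩

theorem im_mem {g : G} (hg : g ∈ triH z f) :
    imK Q g ∈ MulAction.stabilizer ((centralizer ({z} : Set G)) ⧸ Q) v ⊓ M := by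
  obtain ⟨u, hu, hv⟩ := L.rep
  obtain ⟨u', hu', hl, h0, hne⟩ := L.rep' c F
  obtain ⟨hgT, hgz⟩ := mem_inf.1 hg
  obtain ⟨hg1, hg2⟩ := (F.mem_triC c).1 hgT
  rw [imK_eq hgz]
  have hfix : ∀ w : ↥Q, g * val w = val w * g → QuotientGroup.mk' Q ⟨g, hgz⟩ • π w = π w := fun w hw =>
    c.mdl.fixed_of_comm c.hF (c := ⟨g, hgz⟩) (u := w) (Subtype.ext hw)
  have e1 : QuotientGroup.mk' Q ⟨g, hgz⟩ • v = v := hv ▸ hfix u (hu ▸ hg1)
  have e2 := hfix u' (hu' ▸ hg2)
  refine ⟨e1, ?_⟩
  by_contra hM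
  -- outside `M` the three points of the line are not all fixed
  have hk := c.mdl.core.conj_n_outer c.oth.cen hM
  have e3 : QuotientGroup.mk' Q ⟨g, hgz⟩ • n • v = n • n • v := by rw [← mul_smul, hk, mul_smul, mul_smul, e1]
  obtain ⟨-, -, h21, hn0, -⟩ := c.oth.n_move L.ne
  rcases hl with e | e | e | e
  · exact h0 e
  · exact hne e
  · rw [e] at e2
    exact h21 (e3.symm.trans e2)
  · rw [e, ← c.oth.n_sum v, smul_add, e1, e3, add_right_inj] at e2
    exact h21 e2

end Loc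

/-- The map of `C(z) ∩ C(E)` to `SU₄(2)`. -/
noncomputable def Loc.hom {v : V} {cr : ↥(Wsp q n v) →+ (Fin 4 → F4)}
    {ρ : ↥(MulAction.stabilizer ((centralizer ({z} : Set G)) ⧸ Q) v ⊓ M) ≃* ↥(Cfsg.SU 4 F4 2)}
    (L : Loc q π n M T f v cr ρ) (c : Ctx Q q π n M φ s E D A Ab) (F : Frame π n Ab s A T f) :
    ↥(triH z f) →* ↥(Cfsg.SU 4 F4 2) :=
  ρ.toMonoidHom.comp (MonoidHom.mk' (fun g => ⟨imK Q (g : G), L.im_mem c F g.2⟩)
    fun a b => Subtype.ext (imK_mul a.2.2 b.2.2))

namespace Loc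

variable {v : V} {cr : ↥(Wsp q n v) →+ (Fin 4 → F4)}
  {ρ : ↥(MulAction.stabilizer ((centralizer ({z} : Set G)) ⧸ Q) v ⊓ M) ≃* ↥(Cfsg.SU 4 F4 2)}
  (L : Loc q π n M T f v cr ρ) (c : Ctx Q q π n M φ s E D A Ab) (F : Frame π n Ab s A T f)
include L c F

theorem hom_apply (g : ↥(triH z f)) : L.hom c F g = ρ ⟨imK Q (g : G), L.im_mem c F g.2⟩ := rfl

theorem hom_eq_one {g : ↥(triH z f)} : L.hom c F g = 1 ↔ ∃ u : ↥Q, val u = (g : G) := by
  rw [hom_apply, map_eq_one_iff ρ ρ.injective]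
  constructor
  · intro h
    have h' : imK Q (g : G) = 1 := congrArg Subtype.val h
    rw [imK_eq g.2.2, QuotientGroup.mk'_apply, QuotientGroup.eq_one_iff] at h'
    exact ⟨⟨⟨g, g.2.2⟩, h'⟩, rfl⟩
  · rintro ⟨u, hu⟩
    exact Subtype.ext ((congrArg (imK Q) hu).symm.trans (imK_val u))

theorem A_le : A ≤ triH z f := le_inf (F.A_le_triC c) c.le

theorem val_le {x : ↥Q} (hx : π x ∈ Wsp q n v) : val x ∈ triH z f :=
  mem_inf.2 ⟨(L.val_mem c F).2 hx, (x : centralizer ({z} : Set G)).2⟩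

/-- The action on coordinates of the conjugates of elements of `Q`. -/
theorem hom_act (g : ↥(triH z f)) {x : ↥Q} (hx : π x ∈ Wsp q n v) :
    ∃ (x' : ↥Q) (hx' : π x' ∈ Wsp q n v), val x' = (g : G) * val x * (g : G)⁻¹ ∧
      cr ⟨π x', hx'⟩ = act (L.hom c F g) (cr ⟨π x, hx⟩) := by
  obtain ⟨x', h1, h2⟩ := c.pi_conj ⟨g, g.2.2⟩ x
  have hmem : val x' ∈ triC f := by
    rw [h1]
    exact mul_mem (mul_mem g.2.1 ((L.val_mem c F).2 hx)) (inv_mem g.2.1)
  refine ⟨x', (L.val_mem c F).1 hmem, h1, ?_⟩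
  rw [hom_apply]
  exact L.equiv _ ⟨π x, hx⟩ ⟨π x', (L.val_mem c F).1 hmem⟩ (h2.trans (by rw [← imK_eq g.2.2]))

theorem hom_surj : Function.Surjective (L.hom c F) := by
  classical
  intro t
  obtain ⟨⟨k, hk⟩, rfl⟩ := ρ.surjective t
  obtain ⟨w, rfl⟩ := QuotientGroup.mk'_surjective Q k
  obtain ⟨u, hu, hv⟩ := L.rep
  obtain ⟨u', hu', hl, h0, hne⟩ := L.rep' c F
  have e1 : QuotientGroup.mk' Q w • v = v := hk.1
  have hn : QuotientGroup.mk' Q w • π u' = π u' := by
    have en : QuotientGroup.mk' Q w • n • v = n • v := by rw [← mul_smul, c.mdl.core.commute hk.2, mul_smul, e1]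
    rcases hl with e | e | e | e <;> rw [e]
    · exact smul_zero _
    · exact e1
    · exact en
    · rw [← c.oth.n_sum v, smul_add, e1, en]
  -- elements of `Q` moving `u` and `u'` as required
  have hswap : ∀ i j : ZMod 2, ∃ b : ↥Q, polar q (π b) v = i ∧ polar q (π b) (π u') = j := by
    have h1 : ∀ a a' : V, a ≠ 0 → a ≠ a' → ∃ x, polar q x a' = 0 ∧ polar q x a = 1 := fun a a' ha hne' => by
      by_contra hno
      simp only [not_exists, not_and] at hno
      rcases CfsgLib.LargeFischer.Model.double_perp (q := q) c.mdl.core.nondeg (w := a') (u := a)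
        (fun x hx => (z2_cases _).resolve_right (hno x hx)) with e | e
      exacts [ha e, hne' e]
    obtain ⟨x, hx0, hx1⟩ := h1 v (π u') L.ne hne.symm
    obtain ⟨y, hy0, hy1⟩ := h1 (π u') v h0 hne
    intro i j
    obtain ⟨b, hb⟩ := c.mdl.surj (i • x + j • y)
    refine ⟨b, ?_, ?_⟩ <;> rcases z2_cases i with rfl | rfl <;> rcases z2_cases j with rfl | rfl <;>
      simp [hb, polar_add_left, hx0, hx1, hy0, hy1]
  have key : ∀ (y : ↥Q) (b : ↥Q), QuotientGroup.mk' Q w • π y = π y →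
      (val b * ((w : G) * val y * (w : G)⁻¹) * (val b)⁻¹ = val y ↔
        (polar q (π b) (π y) = 0 ↔ (w : G) * val y * (w : G)⁻¹ = val y)) := by
    intro y b hy
    have hz2 := c.zz
    have hbz : val b * z = z * val b := c.comm_z _
    have hzne : val y * z ≠ val y := fun e => c.z_ne (mul_eq_left.1 e)
    by_cases hp : polar q (π b) (π y) = 0
    · have hby : val b * val y = val y * val b := (c.mdl.polar_iff b y).1 hp
      simp only [hp, true_iff]
      rcases c.mdl.conj_cases c.hF (zQ := (c.z_val.choose)) c.z_val.choose_spec.1 (c := w) (u := y) hy with e | e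
      · have e' : (w : G) * val y * (w : G)⁻¹ = val y := congrArg Subtype.val e
        simp [e', hby, mul_assoc]
      · have e' : (w : G) * val y * (w : G)⁻¹ = val y * z :=
          (congrArg Subtype.val e).trans (congrArg (val y * ·) c.z_val.choose_spec.1)
        rw [e', show val b * (val y * z) * (val b)⁻¹ = val y * z by rw [← mul_assoc, hby, mul_assoc _ _ z, hbz]; group]
    · have hnc : val b * val y ≠ val y * val b := fun e => hp ((c.mdl.polar_iff b y).2 e)
      have hflip : val b * val y * (val b)⁻¹ = val y * z := by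
        obtain ⟨y', hy1, hy2⟩ := c.pi_conj (b : centralizer ({z} : Set G)) y
        rw [show QuotientGroup.mk' Q (b : centralizer ({z} : Set G)) = 1 from (QuotientGroup.eq_one_iff _).2 b.2,
          one_smul] at hy2
        rcases c.mdl.pi_eq (x := y) (y := y') hy2.symm with e | e
        · exact absurd (mul_inv_eq_iff_eq_mul.1 (hy1.symm.trans e)) hnc
        · exact hy1.symm.trans e
      simp only [hp, false_iff]
      rcases c.mdl.conj_cases c.hF (zQ := (c.z_val.choose)) c.z_val.choose_spec.1 (c := w) (u := y) hy with e | e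
      · have e' : (w : G) * val y * (w : G)⁻¹ = val y := congrArg Subtype.val e
        rw [e', hflip]
        simp [hzne]
      · have e' : (w : G) * val y * (w : G)⁻¹ = val y * z :=
          (congrArg Subtype.val e).trans (congrArg (val y * ·) c.z_val.choose_spec.1)
        rw [e', show val b * (val y * z) * (val b)⁻¹ = val b * val y * (val b)⁻¹ * z by
          rw [← mul_assoc, mul_assoc _ z, show z * (val b)⁻¹ = (val b)⁻¹ * z from
            ((show Commute z (val b) from hbz.symm).inv_right).eq]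
          simp only [mul_assoc], hflip, mul_assoc, hz2, mul_one]
        simp [hzne]
  obtain ⟨b, hb1, hb2⟩ := hswap (if (w : G) * val u * (w : G)⁻¹ = val u then 0 else 1)
    (if (w : G) * val u' * (w : G)⁻¹ = val u' then 0 else 1)
  have k1 := (key u b (hv.symm ▸ e1)).2 (by rw [hv, hb1]; split_ifs with h <;> simp [h])
  have k2 := (key u' b hn).2 (by rw [hb2]; split_ifs with h <;> simp [h])
  have hg : val b * (w : G) ∈ triH z f := by
    refine mem_inf.2 ⟨(F.mem_triC c).2 ⟨?_, ?_⟩, mul_mem (b : centralizer ({z} : Set G)).2 w.2⟩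
    · rw [← hu]
      refine mul_inv_eq_iff_eq_mul.1 ?_
      calc val b * (w : G) * val u * (val b * (w : G))⁻¹ = val b * ((w : G) * val u * (w : G)⁻¹) * (val b)⁻¹ := by group
        _ = val u := k1
    · rw [← hu']
      refine mul_inv_eq_iff_eq_mul.1 ?_
      calc val b * (w : G) * val u' * (val b * (w : G))⁻¹ =
            val b * ((w : G) * val u' * (w : G)⁻¹) * (val b)⁻¹ := by group
        _ = val u' := k2
  refine ⟨⟨_, hg⟩, ?_⟩
  rw [hom_apply]
  congr 1
  refine Subtype.ext ?_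
  show imK Q (val b * (w : G)) = QuotientGroup.mk' Q w
  rw [imK_mul (b : centralizer ({z} : Set G)).2 w.2, imK_val, imK_coe, one_mul]

end Loc

end CfsgLib.LargeFischer.Thompson
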