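import Cfsg.Agent.Lib.LargeFischer.FourCent.Frame

/-!
# The elements of `A` as sets of points, and the normaliser of `A` as five times transitive on them
-/

set_option autoImplicit false
set_option linter.unusedSectionVars false
set_option linter.style.haveILetI false
set_option maxHeartbeats 1000000

open scoped symmDiff Pointwise

namespace CfsgLib.LargeFischer.Thompson

open Subgroup QuadraticMap
open Cfsg (GolayPt)
open CfsgLib.Schur.Tails.UFour (H4)

variable {G : Type*} [Group G] [Finite G] {z : G}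
  {Q : Subgroup (centralizer ({z} : Set G))} [Q.Normal] {V : Type*} [AddCommGroup V] [Module (ZMod 2) V]
  [DistribMulAction ((centralizer ({z} : Set G)) ⧸ Q) V] [Finite V] {q : QuadraticForm (ZMod 2) V} {π : ↥Q → V}
  {n : (centralizer ({z} : Set G)) ⧸ Q} {M : Subgroup ((centralizer ({z} : Set G)) ⧸ Q)} {φ : ↥M →* ↥H4}
  {s : V} {E : Subgroup ((centralizer ({z} : Set G)) ⧸ Q)} {D : AddSubgroup V}
  {A : Subgroup G} {Ab : Subgroup ((centralizer ({z} : Set G)) ⧸ Q)}
  {T : Fin 6 → V} {f : P24 → G}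

theorem card_symmDiff_card {α : Type*} [DecidableEq α] (s t : Finset α) :
    (s ∆ t).card + 2 * (s ∩ t).card = s.card + t.card := by
  rw [Finset.symmDiff_def, Finset.card_union_of_disjoint (by
    rw [Finset.disjoint_left]; intro x hx hx'; exact (Finset.mem_sdiff.1 hx').2 (Finset.mem_sdiff.1 hx).1)]
  have h1 := Finset.card_sdiff_add_card_inter s t
  have h2 := Finset.card_sdiff_add_card_inter t s
  rw [Finset.inter_comm t s] at h2
  omega

/-- `A` as a commutative group. -/
abbrev Ctx.commA (c : Ctx Q q π n M φ s E D A Ab) : CommGroup ↥A :=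
  { (inferInstance : Group ↥A) with mul_comm := fun a b => Subtype.ext (c.comm a.2 b.2) }

namespace Frame

variable (c : Ctx Q q π n M φ s E D A Ab) (F : Frame π n Ab s A T f)
include c F

theorem commute (a b : P24) : f a * f b = f b * f a := c.comm (F.mem a) (F.mem b)

theorem sq (a : P24) : f a * f a = 1 := c.sq (F.mem a)

/-- The labelling as a pairing in the commutative group `A`. -/
theorem pairing :
    letI := c.commA
    Pairing {x : ↥A | (x : G) ∈ Ns z A} (fun p => (⟨f p, F.mem p⟩ : ↥A)) := by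
  classical
  letI := c.commA
  have himg : ∀ S : Set G, S ⊆ (A : Set G) → ((Subtype.val : ↥A → G) ⁻¹' S).ncard = S.ncard := fun S hS =>
    Set.ncard_preimage_of_injective_subset_range Subtype.val_injective fun x hx => ⟨⟨x, hS hx⟩, rfl⟩
  refine ⟨fun x => Subtype.ext (c.sq x.2), c.card, by simp, ?_, fun d hd => ?_, fun h => h.2.1 rfl,
    fun a b hab => F.pair a b hab, fun x hx => ?_⟩
  · rw [show {x : ↥A | (x : G) ∈ Ns z A} = (Subtype.val : ↥A → G) ⁻¹' Ns z A from rfl, himg _ fun x hx => hx.1,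
      c.Ns_counts.1]
  · rw [show {e : ↥A | e ∈ {x : ↥A | (x : G) ∈ Ns z A} ∧ d * e ∈ {x : ↥A | (x : G) ∈ Ns z A}} =
      (Subtype.val : ↥A → G) ⁻¹' nb z A (d : G) from rfl, himg _ fun x hx => hx.1.1, c.degree hd]
  · obtain ⟨a, b, hab, e⟩ := F.cover _ hx
    exact ⟨a, b, hab, Subtype.ext e⟩

theorem prod_ne {S T' : List P24} (hS : S.Nodup) (hT : T'.Nodup) (hlen : S.length + T'.length ≤ 6)
    (h2 : 2 ∣ S.length + T'.length) (hne : S.toFinset ≠ T'.toFinset) : (S.map f).prod ≠ (T'.map f).prod := by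
  classical
  have hP := F.pairing c
  letI := c.commA
  have hmul : ∀ x y : ↥A, ((x * y : ↥A) : G) = (x : G) * (y : G) := fun _ _ => rfl
  intro e
  let g : P24 → ↥A := fun p => ⟨f p, F.mem p⟩
  have hval : ∀ L : List P24, (((L.map g).prod : ↥A) : G) = (L.map f).prod := by
    intro L
    induction L with
    | nil =>
      rfl
    | cons a L ih => simp only [List.map_cons, List.prod_cons]; rw [hmul, ih]
  have e' : S.toFinset.prod g = T'.toFinset.prod g := by
    rw [List.prod_toFinset g hS, List.prod_toFinset g hT]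
    exact Subtype.ext (by rw [hval, hval, e])
  refine hne ?_
  have h1 : (S.toFinset ∆ T'.toFinset).prod g = 1 := by
    rw [hP.prod_symmDiff, e', hP.sq]
  have hc := card_symmDiff_card S.toFinset T'.toFinset
  rw [List.toFinset_card_of_nodup hS, List.toFinset_card_of_nodup hT] at hc
  exact symmDiff_eq_bot.1 (hP.small (by omega) (by omega) h1)

theorem uniq {a b a' b' : P24} (h : a ≠ b) (h' : a' ≠ b') (e : f a * f b = f a' * f b') :
    (a' = a ∧ b' = b) ∨ (a' = b ∧ b' = a) := by
  classical
  by_contra hne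
  refine F.prod_ne c (S := [a, b]) (T' := [a', b']) (by simp [h]) (by simp [h']) (by simp) (by simp) ?_ (by simpa using e)
  intro he
  have h1 : a' ∈ ({a, b} : Finset P24) := by simpa using (Finset.ext_iff.1 he a')
  have h2 : b' ∈ ({a, b} : Finset P24) := by simpa using (Finset.ext_iff.1 he b')
  simp only [Finset.mem_insert, Finset.mem_singleton] at h1 h2
  rcases h1 with h1 | h1 <;> rcases h2 with h2 | h2
  · exact h' (h1.trans h2.symm)
  · exact hne (.inl ⟨h1, h2⟩)
  · exact hne (.inr ⟨h1, h2⟩)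
  · exact h' (h1.trans h2.symm)

/-- The product of four points is conjugate to the central involution. -/
theorem tetrad_conj {a b d e : P24} (h : [a, b, d, e].Nodup) : IsConj z (f a * f b * f d * f e) := by
  classical
  have hA : f a * f b * f d * f e ∈ A := mul_mem (mul_mem (mul_mem (F.mem a) (F.mem b)) (F.mem d)) (F.mem e)
  by_contra hc
  have h1 : f a * f b * f d * f e ≠ 1 := fun he =>
    F.prod_ne c h (T' := []) List.nodup_nil (by simp) (by simp) (by
      intro he'
      have := Finset.ext_iff.1 he' a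
      simp at this) (by simpa [mul_assoc] using he)
  obtain ⟨a', b', hab', he⟩ := F.cover _ ⟨hA, h1, hc⟩
  refine F.prod_ne c h (T' := [a', b']) (by simp [hab']) (by simp) (by simp) ?_ (by simpa [mul_assoc] using he.symm)
  intro hf
  have := congrArg Finset.card hf
  rw [List.toFinset_card_of_nodup h, List.toFinset_card_of_nodup (by simp [hab'] : [a', b'].Nodup)] at this
  simp at this

theorem not_isConj {a b : P24} (h : a ≠ b) : ¬ IsConj z (f a * f b) := (F.pair a b h).2.2

theorem exhaust {x : G} (hx : x ∈ A) : x = 1 ∨ (∃ a b, a ≠ b ∧ x = f a * f b) ∨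
    ∃ a b d e, [a, b, d, e].Nodup ∧ x = f a * f b * f d * f e := by
  classical
  have hP := F.pairing c
  letI := c.commA
  have hmul : ∀ x y : ↥A, ((x * y : ↥A) : G) = (x : G) * (y : G) := fun _ _ => rfl
  obtain ⟨S, h2, h4, e⟩ := hP.exhaust.1 ⟨x, hx⟩
  rcases (show S.card = 0 ∨ S.card = 2 ∨ S.card = 4 by omega) with h | h | h
  · left
    rw [Finset.card_eq_zero.1 h, Finset.prod_empty] at e
    exact (congrArg Subtype.val e).symm
  · obtain ⟨a, b, hab, rfl⟩ := Finset.card_eq_two.1 h
    rw [Finset.prod_pair hab] at e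
    exact .inr (.inl ⟨a, b, hab, ((congrArg Subtype.val e).symm.trans (hmul _ _))⟩)
  · obtain ⟨a, b, d, r, hab, had, hae, hbd, hbe, hde, rfl⟩ := Finset.card_eq_four.1 h
    refine .inr (.inr ⟨a, b, d, r, by simp [hab, had, hae, hbd, hbe, hde], ?_⟩)
    rw [Finset.prod_insert (by simp [hab, had, hae]), Finset.prod_insert (by simp [hbd, hbe]),
      Finset.prod_pair hde] at e
    refine (congrArg Subtype.val e).symm.trans ?_
    rw [hmul, hmul, hmul]
    simp [mul_assoc]

/-- A tetrad has a disjoint tetrad with the same product through any other point. -/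
theorem tetrad_move {a b d e p : P24} (h : [p, a, b, d, e].Nodup) : ∃ b' d' e', [p, b', d', e'].Nodup ∧
    (∀ x ∈ [p, b', d', e'], x ∉ [a, b, d, e]) ∧ f p * f b' * f d' * f e' = f a * f b * f d * f e := by
  classical
  have hP := F.pairing c
  letI := c.commA
  have hmul : ∀ x y : ↥A, ((x * y : ↥A) : G) = (x : G) * (y : G) := fun _ _ => rfl
  simp only [List.nodup_cons, List.mem_cons, List.not_mem_nil, or_false, not_or, List.nodup_nil] at h
  obtain ⟨⟨hpa, hpb, hpd, hpe⟩, ⟨hab, had, hae⟩, ⟨hbd, hbe⟩, hde, -⟩ := h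
  have hS : ({a, b, d, e} : Finset P24).card = 4 := by
    rw [Finset.card_eq_four]; exact ⟨a, b, d, e, hab, had, hae, hbd, hbe, hde, rfl⟩
  obtain ⟨t, ht, hpt, hdis, he⟩ := hP.exhaust.2 {a, b, d, e} p hS (by simp [hpa, hpb, hpd, hpe])
  obtain ⟨b', d', e', hbd', hbe', hde', hte⟩ := Finset.card_eq_three.1 (show (t.erase p).card = 3 by
    rw [Finset.card_erase_of_mem hpt, ht])
  have hmem : ∀ x ∈ t.erase p, x ≠ p ∧ x ∈ t := fun x hx => Finset.mem_erase.1 hx
  obtain ⟨hb1, hb2⟩ := hmem b' (by rw [hte]; simp)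
  obtain ⟨hd1, hd2⟩ := hmem d' (by rw [hte]; simp)
  obtain ⟨he1, he2⟩ := hmem e' (by rw [hte]; simp)
  refine ⟨b', d', e', by simp [hb1.symm, hd1.symm, he1.symm, hbd', hbe', hde'], fun x hx => ?_, ?_⟩
  · have hxt : x ∈ t := by
      simp only [List.mem_cons, List.not_mem_nil, or_false] at hx
      rcases hx with rfl | rfl | rfl | rfl
      exacts [hpt, hb2, hd2, he2]
    intro hxs
    exact Finset.disjoint_left.1 hdis (by simpa using hxs) hxt
  · rw [← Finset.mul_prod_erase t _ hpt, hte, Finset.prod_insert (by simp [hbd', hbe']), Finset.prod_pair hde',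
      Finset.prod_insert (by simp [hab, had, hae]), Finset.prod_insert (by simp [hbd, hbe]),
      Finset.prod_pair hde] at he
    have e1 := congrArg Subtype.val he
    simpa [hmul, mul_assoc] using e1

/-- The normaliser of `A` as a group of permutations of the points. -/
theorem exists_action : ∃ σ : ↥(Subgroup.normalizer (A : Set G)) →* Equiv.Perm P24,
    σ.ker = A.subgroupOf (Subgroup.normalizer (A : Set G)) ∧
    (∀ (m : ↥(Subgroup.normalizer (A : Set G))) a b, (m : G) * (f a * f b) * (m : G)⁻¹ = f (σ m a) * f (σ m b)) ∧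
    ∀ k ≤ 5, ∀ x y : Fin k ↪ P24, ∃ m, ∀ i, σ m (x i) = y i := by
  classical
  set N := Subgroup.normalizer (A : Set G) with hN
  have hP := F.pairing c
  letI := c.commA
  have hmul : ∀ x y : ↥A, ((x * y : ↥A) : G) = (x : G) * (y : G) := fun _ _ => rfl
  set N₀ := {x : ↥A | (x : G) ∈ Ns z A} with hN₀def
  have hN₀ : ∀ x : ↥A, x ∈ N₀ ↔ (x : G) ∈ Ns z A := fun _ => Iff.rfl
  let α : ↥N → ↥A ≃* ↥A := fun m =>
    { toFun := fun x => ⟨(m : G) * x * (m : G)⁻¹, c.conj_mem m.2 x.2⟩
      invFun := fun x => ⟨(m : G)⁻¹ * x * (m : G), by simpa using c.conj_mem (inv_mem m.2) x.2⟩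
      left_inv := fun x => Subtype.ext (by simp [mul_assoc])
      right_inv := fun x => Subtype.ext (by simp [mul_assoc])
      map_mul' := fun x y => Subtype.ext (by simp only [hmul]; group) }
  have hα : ∀ m x, α m x ∈ N₀ ↔ x ∈ N₀ := by
    intro m x
    rw [hN₀, hN₀]
    refine ⟨fun h => ?_, fun h => c.Ns_conj m.2 h⟩
    have := c.Ns_conj (inv_mem m.2) h
    simpa [α, mul_assoc] using this
  choose g hg using fun m => hP.exists_perm (α m) (hα m)
  have hgG : ∀ (m : ↥N) a b, (m : G) * (f a * f b) * (m : G)⁻¹ = f (g m a) * f (g m b) := fun m a b => by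
    have := congrArg Subtype.val (hg m a b)
    simpa [α, hmul] using this
  let σ : ↥N →* Equiv.Perm P24 := MonoidHom.mk' g fun m m' => hP.perm_unique fun a b => Subtype.ext (by
    rw [hmul, hmul]
    show f (g (m * m') a) * f (g (m * m') b) = f (g m (g m' a)) * f (g m (g m' b))
    rw [← hgG (m * m'), ← hgG m, ← hgG m']
    simp [mul_assoc])
  have hker : σ.ker = A.subgroupOf N := by
    ext m
    rw [MonoidHom.mem_ker, mem_subgroupOf]
    constructor
    · intro hm
      refine c.cent fun a ha => mul_inv_eq_iff_eq_mul.1 ?_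
      rcases F.exhaust c ha with rfl | ⟨x, y, -, rfl⟩ | ⟨x, y, x', y', -, rfl⟩
      · group
      · rw [hgG]; show f (σ m x) * f (σ m y) = _; rw [hm]; rfl
      · calc (m : G) * (f x * f y * f x' * f y') * (m : G)⁻¹
            = ((m : G) * (f x * f y) * (m : G)⁻¹) * ((m : G) * (f x' * f y') * (m : G)⁻¹) := by group
          _ = f (σ m x) * f (σ m y) * (f (σ m x') * f (σ m y')) := by rw [hgG, hgG]; rfl
          _ = f x * f y * f x' * f y' := by rw [hm]; simp [mul_assoc]
    · intro hm
      refine hP.perm_unique fun a b => Subtype.ext ?_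
      rw [hmul, hmul]
      show f (g m a) * f (g m b) = f a * f b
      rw [← hgG]
      exact mul_inv_eq_iff_eq_mul.2 (c.comm hm (mul_mem (F.mem a) (F.mem b)))
  refine ⟨σ, hker, hgG, ?_⟩
  obtain ⟨e, he⟩ := CfsgLib.Golay.iso_octads hP.cardPts hP.steiner
  let ψ : ↥N →* Equiv.Perm GolayPt := e.permCongrHom.toMonoidHom.comp σ
  have hψ : ∀ m x, ψ m (e x) = e (g m x) := fun m x => by
    show e (σ m (e.symm (e x))) = _
    rw [Equiv.symm_apply_apply]
    rfl
  have hle : ψ.range ≤ Cfsg.M24 := by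
    rintro _ ⟨m, rfl⟩
    refine CfsgLib.Golay.smul_octads_mem_M24 _ fun o ho _ => ?_
    rw [← he] at ho ⊢
    obtain ⟨b, ⟨hb8, hb1⟩, rfl⟩ := ho
    refine ⟨b.image (g m), ⟨?_, ?_⟩, ?_⟩
    · rw [Finset.card_image_of_injective _ (g m).injective, hb8]
    · rw [hP.prod_image_perm (hg m) (by rw [hb8]; norm_num), hb1, map_one]
    · show (b.image (g m)).image e = ψ m • b.image e
      rw [Finset.smul_finset_def, Finset.image_image, Finset.image_image]
      exact Finset.image_congr fun u _ => (hψ m u).symm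
  have hrange : ψ.range = Cfsg.M24 := by
    refine eq_of_le_of_card_ge hle ?_
    have hk : ψ.ker = A.subgroupOf N := by
      rw [← hker]
      ext m
      simp [ψ, MonoidHom.mem_ker]
    have h := ψ.ker.card_mul_index
    rw [Subgroup.index_ker, hk, Nat.card_congr (subgroupOfEquivOfLe Subgroup.le_normalizer).toEquiv, c.card,
      show Nat.card ↥N = _ from c.orbit_stab.symm, c.Zs_facts.1] at h
    rw [CfsgLib.Golay.card_M24]
    omega
  intro k hk x y
  obtain ⟨t, ht, hxy⟩ := CfsgLib.Golay.M24_exists_map hk (x.trans e.toEmbedding) (y.trans e.toEmbedding)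
  obtain ⟨m, rfl⟩ : t ∈ ψ.range := hrange ▸ ht
  refine ⟨m, fun i => e.injective ?_⟩
  show e (g m (x i)) = e (y i)
  rw [← hψ]
  exact hxy i

/-- `N(A)` moves any five points to any five. -/
theorem move {k : ℕ} (hk : k ≤ 5) (x y : Fin k → P24) (hx : Function.Injective x) (hy : Function.Injective y) :
    ∃ m ∈ Subgroup.normalizer (A : Set G),
      ∀ i j, m * (f (x i) * f (x j)) * m⁻¹ = f (y i) * f (y j) := by
  obtain ⟨σ, -, heq, hmove⟩ := F.exists_action c
  obtain ⟨m, hm⟩ := hmove k hk ⟨x, hx⟩ ⟨y, hy⟩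
  refine ⟨m, m.2, fun i j => ?_⟩
  rw [heq, show σ m (x i) = y i from hm i, show σ m (x j) = y j from hm j]

end Frame

end CfsgLib.LargeFischer.Thompson
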