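import Cfsg.Agent.Lib.LargeFischer.FourCent.Class

/-!
# The map onto `SU₄(2)` of the centraliser of the image of `z`, and the members over a transvection
-/

set_option autoImplicit false
set_option linter.unusedSectionVars false
set_option linter.style.haveILetI false

namespace CfsgLib.LargeFischer.Thompson

open Subgroup QuadraticMap
open CfsgLib.Schur.Tails.UFour (H4)
open CfsgLib.LargeFischer.Core (Wsp)
open CfsgLib.SURadical (IsPt)
open CfsgLib.PSUAut (Isot act)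
open CfsgLib.ThreeTransp (link)

variable {G : Type*} [Group G] [Finite G] {z : G}
  {Q : Subgroup (centralizer ({z} : Set G))} [Q.Normal] {V : Type*} [AddCommGroup V] [Module (ZMod 2) V]
  [DistribMulAction ((centralizer ({z} : Set G)) ⧸ Q) V] [Finite V] {q : QuadraticForm (ZMod 2) V} {π : ↥Q → V}
  {n : (centralizer ({z} : Set G)) ⧸ Q} {M : Subgroup ((centralizer ({z} : Set G)) ⧸ Q)} {φ : ↥M →* ↥H4}
  {s : V} {E : Subgroup ((centralizer ({z} : Set G)) ⧸ Q)} {D : AddSubgroup V}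
  {A : Subgroup G} {Ab : Subgroup ((centralizer ({z} : Set G)) ⧸ Q)}
  {T : Fin 6 → V} {f : P24 → G}

local notation "hh" => Cfsg.hermForm 4 F4 2

namespace Loc

variable {v : V} {cr : ↥(Wsp q n v) →+ (Fin 4 → F4)}
  {ρ : ↥(MulAction.stabilizer ((centralizer ({z} : Set G)) ⧸ Q) v ⊓ M) ≃* ↥(Cfsg.SU 4 F4 2)}
  (L : Loc q π n M T f v cr ρ) (c : Ctx Q q π n M φ s E D A Ab) (F : Frame π n Ab s A T f)
include L c F

theorem tri_hom {x : G} (hx : x ∈ tri f) : ∃ h : x ∈ triH z f, L.hom c F ⟨x, h⟩ = 1 := by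
  refine ⟨L.A_le c F (F.tri_le c hx), ?_⟩
  rw [L.hom_eq_one c F]
  rcases (F.mem_tri c).1 hx with e | e | e | e
  · exact ⟨1, e.symm⟩
  · obtain ⟨u, hu, -⟩ := L.rep; exact ⟨u, hu.trans e.symm⟩
  · obtain ⟨u, hu, -⟩ := L.rep' c F; exact ⟨u, hu.trans e.symm⟩
  · obtain ⟨u, hu, -⟩ := F.inner_pi 0 1 3 (by decide); exact ⟨u, hu.trans e.symm⟩

/-- The map of the centraliser of the image of `z`. -/
theorem exists_pi : ∃ p : ↥(centralizer ({F.dElt c} : Set (TriQ f))) →* ↥(Cfsg.SU 4 F4 2),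
    ∀ (y : ↥(triC f)) (hy : (y : G) ∈ triH z f) (h : tmk f y ∈ centralizer ({F.dElt c} : Set (TriQ f))),
      p ⟨tmk f y, h⟩ = L.hom c F ⟨y, hy⟩ := by
  let g : ↥(triH z f) →* TriQ f := (tmk f).comp (Subgroup.inclusion inf_le_left)
  have hg : ∀ x, g x ∈ centralizer ({F.dElt c} : Set (TriQ f)) := fun x => by
    rw [mem_centralizer_singleton_iff]
    show tmk f _ * tmk f _ = tmk f _ * tmk f _
    rw [← map_mul, ← map_mul]
    exact congrArg _ (Subtype.ext (mem_centralizer_singleton_iff.1 x.2.2))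
  let g' := g.codRestrict _ hg
  have hsurj : Function.Surjective g' := by
    rintro ⟨x, hx⟩
    obtain ⟨y, rfl⟩ := QuotientGroup.mk'_surjective _ x
    exact ⟨⟨y, L.commute_lift c F (mem_centralizer_singleton_iff.1 hx)⟩, Subtype.ext rfl⟩
  have hker : g'.ker ≤ (L.hom c F).ker := by
    intro x hx
    have hx' : tmk f (Subgroup.inclusion inf_le_left x) = 1 := congrArg Subtype.val (MonoidHom.mem_ker.1 hx)
    rw [QuotientGroup.mk'_apply, QuotientGroup.eq_one_iff] at hx'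
    obtain ⟨h, h1⟩ := L.tri_hom c F (x := (x : G)) hx'
    exact h1
  refine ⟨g'.liftOfSurjective hsurj ⟨L.hom c F, hker⟩, fun y hy h => ?_⟩
  have e := g'.liftOfRightInverse_comp_apply _ (Function.rightInverse_surjInv hsurj) ⟨L.hom c F, hker⟩ ⟨y, hy⟩
  exact e

variable {p : ↥(centralizer ({F.dElt c} : Set (TriQ f))) →* ↥(Cfsg.SU 4 F4 2)}
  (hp : ∀ (y : ↥(triC f)) (hy : (y : G) ∈ triH z f) (h : tmk f y ∈ centralizer ({F.dElt c} : Set (TriQ f))),
      p ⟨tmk f y, h⟩ = L.hom c F ⟨y, hy⟩)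
include hp

theorem ker_two : IsPGroup 2 ↥p.ker := by
  rintro ⟨⟨x, hx⟩, hxk⟩
  obtain ⟨y, rfl⟩ := QuotientGroup.mk'_surjective _ x
  have hy := L.commute_lift c F (y := y) (mem_centralizer_singleton_iff.1 hx)
  obtain ⟨u, hu⟩ := (L.hom_eq_one c F).1 ((hp y hy hx).symm.trans hxk)
  have h13 : u ^ 2 ^ 13 = 1 := by
    rw [← c.hF.1.2.2.2.1]
    exact pow_card_eq_one'
  refine ⟨13, Subtype.ext (Subtype.ext ?_)⟩
  show (tmk f y) ^ 2 ^ 13 = 1
  rw [← map_pow, show y ^ 2 ^ 13 = 1 from Subtype.ext (by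
    show (y : G) ^ 2 ^ 13 = 1
    rw [← hu]
    exact congrArg (fun w : ↥Q => val w) h13), map_one]

/-- The image of a link member is a transvection, conjugate to a tetrad element. -/
theorem link_im {x : ↥(centralizer ({F.dElt c} : Set (TriQ f)))}
    (hx : (x : TriQ f) ∈ link (conjugatesOf (F.dElt c)) (F.dElt c)) :
    ∃ y : ↥(triC f), ∃ hy : (y : G) ∈ triH z f, tmk f y = (x : TriQ f) ∧ p x = L.hom c F ⟨y, hy⟩ ∧
      (∃ g ∈ triC f, (y : G) = g * z * g⁻¹) ∧ ∃ h, ∃ hh' : h ∈ triH z f, ∃ d : P24, ∃ hd : d.1 ≠ 0,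
        h * (y : G) * h⁻¹ = tau f d ∧ L.hom c F ⟨h, hh'⟩ * p x * (L.hom c F ⟨h, hh'⟩)⁻¹ =
          ρ ⟨kT Q f d.1, L.Ab_fixed c F (L.kT_mem c F hd).1⟩ := by
  obtain ⟨g, hg, hy, h, hh', d, hd, he⟩ := L.link_lift c F hx
  have hpx : p x = L.hom c F ⟨_, hy⟩ := by
    rw [← hp (g * ⟨z, F.z_triC c⟩ * g⁻¹) hy (hg ▸ x.2)]
    exact congrArg p (Subtype.ext hg.symm)
  refine ⟨_, hy, hg, hpx, ⟨g, g.2, rfl⟩, h, hh', d, hd, he, ?_⟩
  rw [hpx, ← map_inv, ← map_mul, ← map_mul]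
  exact congrArg ρ (Subtype.ext ((congrArg (imK Q) he).trans (L.im_tau c F hd)))

/-- A link member with image a transvection of the line lies in the image of `A`. -/
theorem over_A {x : ↥(centralizer ({F.dElt c} : Set (TriQ f)))}
    (hx : (x : TriQ f) ∈ link (conjugatesOf (F.dElt c)) (F.dElt c)) {i : Fin 6} (hi : i ≠ 0)
    (h : p x = ρ ⟨kT Q f i, L.Ab_fixed c F (L.kT_mem c F hi).1⟩) :
    ∃ d : P24, d.1 = i ∧ tmk f ⟨tau f d, F.A_le_triC c (F.tau_mem c d)⟩ = (x : TriQ f) := by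
  obtain ⟨y, hy, hyx, hpx, ⟨g, hg, hyg⟩, k, hk, d, hd, he, -⟩ := L.link_im c F hp hx
  have him : imK Q (y : G) = kT Q f i := congrArg Subtype.val (ρ.injective (hpx.symm.trans h))
  have hyA : (y : G) ∈ A := by
    have e : (y : G) = k⁻¹ * tau f d * k⁻¹⁻¹ := by rw [← he]; group
    rw [e] at him ⊢
    exact L.tau_conj_mem c F (inv_mem hk) hd hi him
  obtain ⟨d', -, hd'⟩ := F.class_A c hg (hyg ▸ hyA)
  rw [← hyg] at hd'
  refine ⟨d', ?_, by rw [← hyx]; exact congrArg (tmk f) (Subtype.ext hd'.symm)⟩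
  by_contra hne
  by_cases h0 : d'.1 = 0
  · -- the image would be trivial
    obtain ⟨j, a⟩ := d'
    obtain rfl : j = 0 := h0
    have h1 : imK Q (tau f (0, a)) = 1 := by
      obtain ⟨u, hu, -, -⟩ := F.inner_pi 0 1 2 (by decide)
      by_cases ha : a = 3
      · subst ha
        rw [show tau f (0, 3) = val u from by rw [tau, mul_assoc, F.sq c, mul_one, hu], imK_val]
      · obtain ⟨u', hu', -, -⟩ := F.inner_pi 0 3 a (Ne.symm ha)
        rw [show tau f (0, a) = val u * val u' from by rw [tau, hu, hu', mul_assoc _ (f (0, 3))],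
          show val u * val u' = val (u * u') from rfl, imK_val]
    rw [hd', h1] at him
    exact (L.kT_mem c F hi).2.1 him.symm
  · rw [hd', L.im_tau c F h0] at him
    exact hne (L.kT_inj c F h0 hi him)

theorem tau_link {d : P24} (hd : d.1 ≠ 0) :
    ∃ h : tmk f ⟨tau f d, F.A_le_triC c (F.tau_mem c d)⟩ ∈ centralizer ({F.dElt c} : Set (TriQ f)),
      tmk f ⟨tau f d, F.A_le_triC c (F.tau_mem c d)⟩ ∈ link (conjugatesOf (F.dElt c)) (F.dElt c) ∧
      p ⟨_, h⟩ = ρ ⟨kT Q f d.1, L.Ab_fixed c F (L.kT_mem c F hd).1⟩ := by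
  obtain ⟨g, hg, -, hge⟩ := F.tau_class c (L.tau_off c F hd)
  have hτ : tau f d * z = z * tau f d := c.comm (F.tau_mem c d) c.z_mem
  have hcm : Commute (tmk f ⟨tau f d, F.A_le_triC c (F.tau_mem c d)⟩) (F.dElt c) := by
    show tmk f _ * tmk f _ = tmk f _ * tmk f _
    rw [← map_mul, ← map_mul]
    exact congrArg _ (Subtype.ext hτ)
  refine ⟨mem_centralizer_singleton_iff.2 hcm.eq, ⟨(F.mem_class c).2 ⟨⟨g, hg⟩, congrArg _ (Subtype.ext hge)⟩,
    fun e => ?_, hcm.symm⟩, ?_⟩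
  · obtain ⟨t, ht, e'⟩ := (F.tmk_eq c).1 e
    by_cases ht1 : t = 1
    · refine (F.pair d (0, 0) (fun h => hd (by rw [h]))).2.1 ?_
      have e'' : tau f (0, 0) = tau f d := by rw [F.tau_zero c]; simpa [ht1] using e'
      rw [mul_left_cancel e'', F.sq c]
    · exact F.tau_mul_not c (L.tau_off c F hd) ht ht1 (e' ▸ IsConj.refl z)
  · rw [hp _ (L.A_le c F (F.tau_mem c d))]
    exact congrArg ρ (Subtype.ext (L.im_tau c F hd))

theorem tau_inj {d d' : P24} (hd : Off d) (hd' : Off d')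
    (h : tmk f ⟨tau f d, F.A_le_triC c (F.tau_mem c d)⟩ = tmk f ⟨tau f d', F.A_le_triC c (F.tau_mem c d')⟩) :
    d = d' := by
  obtain ⟨t, ht, e⟩ := (F.tmk_eq c).1 h
  replace e : tau f d' = tau f d * t := e
  by_cases ht1 : t = 1
  · rw [ht1, mul_one] at e
    have e' := mul_left_cancel e
    by_contra hne
    exact (F.pair d d' hne).2.1 (by rw [e', F.sq c])
  · exact absurd (e ▸ F.tau_conj c hd') (F.tau_mul_not c hd ht ht1)

theorem lifts (t : ↥(Cfsg.SU 4 F4 2)) (w : Fin 4 → F4) (ht : IsPt t w) :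
    {x : ↥(centralizer ({F.dElt c} : Set (TriQ f))) |
      (x : TriQ f) ∈ link (conjugatesOf (F.dElt c)) (F.dElt c) ∧ p x = t}.ncard = 4 := by
  classical
  obtain ⟨y₀, hy₀⟩ := ht.exists_conj card_F4' (L.kT_pt c F (i := 1) (by decide))
  obtain ⟨⟨y, hy⟩, rfl⟩ := L.hom_surj c F y₀
  have hyc : tmk f ⟨y, hy.1⟩ ∈ centralizer ({F.dElt c} : Set (TriQ f)) := by
    rw [mem_centralizer_singleton_iff]
    show tmk f _ * tmk f _ = tmk f _ * tmk f _
    rw [← map_mul, ← map_mul]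
    exact congrArg _ (Subtype.ext (mem_centralizer_singleton_iff.1 hy.2))
  set Y : ↥(centralizer ({F.dElt c} : Set (TriQ f))) := ⟨_, hyc⟩
  have hY : p Y = L.hom c F ⟨y, hy⟩ := hp ⟨y, hy.1⟩ hy hyc
  have hl : ∀ (X x : ↥(centralizer ({F.dElt c} : Set (TriQ f)))),
      (x : TriQ f) ∈ link (conjugatesOf (F.dElt c)) (F.dElt c) →
      ((X * x * X⁻¹ : ↥(centralizer ({F.dElt c} : Set (TriQ f)))) : TriQ f) ∈
        link (conjugatesOf (F.dElt c)) (F.dElt c) := by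
    intro X x ⟨h1, h2, h3⟩
    refine ⟨IsConj.trans h1 (isConj_iff.2 ⟨(X : TriQ f), rfl⟩), fun e => h2 ?_,
      (mem_centralizer_singleton_iff.1 (X * x * X⁻¹).2).symm⟩
    have hXd : (X : TriQ f)⁻¹ * F.dElt c * (X : TriQ f) = F.dElt c := by
      rw [mul_assoc, ← mem_centralizer_singleton_iff.1 X.2, inv_mul_cancel_left]
    refine Eq.trans ?_ ((congrArg (fun w => (X : TriQ f)⁻¹ * w * (X : TriQ f)) e).trans hXd)
    simp [mul_assoc]
  choose hτ hτl hτp using fun a : Fin 4 => L.tau_link c F hp (d := ((1 : Fin 6), a)) (by simp)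
  let φ' : Fin 4 → ↥(centralizer ({F.dElt c} : Set (TriQ f))) := fun a => Y⁻¹ * ⟨_, hτ a⟩ * Y
  have hrange : {x : ↥(centralizer ({F.dElt c} : Set (TriQ f))) |
      (x : TriQ f) ∈ link (conjugatesOf (F.dElt c)) (F.dElt c) ∧ p x = t} = Set.range φ' := by
    ext x
    constructor
    · rintro ⟨hx, hpx⟩
      obtain ⟨d, hd1, he⟩ := L.over_A c F hp (x := Y * x * Y⁻¹) (hl Y x hx) (i := 1) (by decide)
        (by rw [map_mul, map_mul, map_inv, hY, hpx, hy₀])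
      obtain ⟨i, a⟩ := d
      obtain rfl : i = 1 := hd1
      refine ⟨a, ?_⟩
      show Y⁻¹ * ⟨_, hτ a⟩ * Y = x
      rw [show (⟨_, hτ a⟩ : ↥(centralizer ({F.dElt c} : Set (TriQ f)))) = Y * x * Y⁻¹ from Subtype.ext he]
      group
    · rintro ⟨a, rfl⟩
      refine ⟨?_, ?_⟩
      · have := hl Y⁻¹ ⟨_, hτ a⟩ (hτl a)
        rwa [inv_inv] at this
      · show p (Y⁻¹ * ⟨_, hτ a⟩ * Y) = t
        rw [map_mul, map_mul, map_inv, hY, hτp a, ← hy₀]
        group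
  rw [hrange, Set.ncard_range_of_injective, Nat.card_eq_fintype_card, Fintype.card_fin]
  intro a b e
  have e' : tmk f ⟨tau f (1, a), F.A_le_triC c (F.tau_mem c _)⟩ = tmk f ⟨tau f (1, b), F.A_le_triC c (F.tau_mem c _)⟩ :=
    congrArg Subtype.val (mul_left_cancel (mul_right_cancel e))
  exact congrArg Prod.snd (L.tau_inj c F hp (L.tau_off c F (by simp)) (L.tau_off c F (by simp)) e')

theorem mul_notMem {x : TriQ f} (hx : x ∈ link (conjugatesOf (F.dElt c)) (F.dElt c)) :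
    x * F.dElt c ∉ conjugatesOf (F.dElt c) := by
  intro hmem
  obtain ⟨g, hg, hy, h, hh', d, hd, he⟩ := L.link_lift c F hx
  obtain ⟨g', hg'⟩ := (F.mem_class c).1 hmem
  rw [← hg, show F.dElt c = tmk f ⟨z, F.z_triC c⟩ from rfl, ← map_mul] at hg'
  obtain ⟨t, ht, e⟩ := (F.tmk_eq c).1 hg'
  replace e : (g : G) * z * (g : G)⁻¹ * z = (g' : G) * z * (g' : G)⁻¹ * t := e
  have e1 : tau f d * z = (h * g') * z * (h * g')⁻¹ * t := by
    have hz : h * z * h⁻¹ = z := mul_inv_eq_iff_eq_mul.2 (mem_centralizer_singleton_iff.1 hh'.2)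
    calc tau f d * z = h * ((g : G) * z * (g : G)⁻¹) * h⁻¹ * (h * z * h⁻¹) := by rw [he, hz]
      _ = h * ((g : G) * z * (g : G)⁻¹ * z) * h⁻¹ := by group
      _ = h * ((g' : G) * z * (g' : G)⁻¹) * h⁻¹ * (h * t * h⁻¹) := by rw [e]; group
      _ = _ := by rw [F.conj_tri c hh'.1 ht]; group
  have hA : h * g' * z * (h * g')⁻¹ ∈ A := by
    have := mul_mem (mul_mem (F.tau_mem c d) c.z_mem) (F.tri_le c ht)
    rwa [e1, mul_assoc, c.sq (F.tri_le c ht), mul_one] at this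
  obtain ⟨d', hd', he'⟩ := F.class_A c (mul_mem hh'.1 g'.2) hA
  rw [he'] at e1
  by_cases ht1 : t = 1
  · rw [ht1, mul_one] at e1
    exact L.tau_z c F hd (e1 ▸ F.tau_conj c hd')
  obtain ⟨q', hq0, hqOff, hne, heq⟩ := F.tau_mul c hd' ht ht1
  have hTz : tau f d * z = f d * f (0, 0) := by
    set P := f (0, 1) * f (0, 2) * f (0, 3)
    have hP : P ∈ A := mul_mem (mul_mem (F.mem _) (F.mem _)) (F.mem _)
    rw [← F.tau_zero c, tau, tau]
    calc P * f d * (P * f (0, 0)) = f d * P * (P * f (0, 0)) := by rw [c.comm hP (F.mem d)]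
      _ = f d * (P * P) * f (0, 0) := by simp only [mul_assoc]
      _ = f d * f (0, 0) := by rw [c.sq hP, mul_one]
  rw [hTz, heq] at e1
  rcases F.uniq c (fun h0 => hd (by rw [h0])) hne.symm e1 with ⟨h1, -⟩ | ⟨h1, -⟩
  · exact hqOff (h1 ▸ L.tau_off c F hd)
  · exact hqOff (by rw [h1]; simp [Off])

theorem comm_of_map {x y : ↥(centralizer ({F.dElt c} : Set (TriQ f)))}
    (hx : (x : TriQ f) ∈ link (conjugatesOf (F.dElt c)) (F.dElt c))
    (hy : (y : TriQ f) ∈ link (conjugatesOf (F.dElt c)) (F.dElt c)) (hc : Commute (p x) (p y)) :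
    Commute (x : TriQ f) (y : TriQ f) := by
  classical
  have hpt : ∀ x : ↥(centralizer ({F.dElt c} : Set (TriQ f))),
      (x : TriQ f) ∈ link (conjugatesOf (F.dElt c)) (F.dElt c) → ∃ w, IsPt (p x) w := by
    intro x hx
    obtain ⟨u, hu, -, -, -, h, hh', d, hd, -, he⟩ := L.link_im c F hp hx
    refine ⟨_, (?_ : IsPt _ (act (L.hom c F ⟨h, hh'⟩)⁻¹ (cr ⟨T d.1, L.fix_le c F (L.T_fix c F d.1)⟩)))⟩
    have := (L.kT_pt c F hd).conj (L.hom c F ⟨h, hh'⟩)⁻¹
    rwa [← he, show (L.hom c F ⟨h, hh'⟩)⁻¹ * (L.hom c F ⟨h, hh'⟩ * p x * (L.hom c F ⟨h, hh'⟩)⁻¹) *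
      (L.hom c F ⟨h, hh'⟩)⁻¹⁻¹ = p x by group] at this
  obtain ⟨u, hu⟩ := hpt x hx
  obtain ⟨w, hw⟩ := hpt y hy
  have huw : hh u w = 0 := (hu.commute_iff card_F4' hw).1 hc
  -- move both points into the line
  obtain ⟨y₀, i, j, hi, hj, a, b, ha, hb, e1, e2⟩ : ∃ (y₀ : ↥(Cfsg.SU 4 F4 2)) (i j : Fin 6) (hi : i ≠ 0) (hj : j ≠ 0)
      (a b : F4), a ≠ 0 ∧ b ≠ 0 ∧ act y₀ u = a • cr ⟨T i, L.fix_le c F (L.T_fix c F i)⟩ ∧
        act y₀ w = b • cr ⟨T j, L.fix_le c F (L.T_fix c F j)⟩ := by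
    by_cases hin : ∃ a : F4, w = a • u
    · obtain ⟨a, rfl⟩ := hin
      obtain ⟨y₀, hy₀⟩ := hu.exists_conj card_F4' (L.kT_pt c F (i := 1) (by decide))
      obtain ⟨b, hb, he⟩ := (L.kT_pt c F (i := 1) (by decide)).span_eq card_F4' (hy₀ ▸ hu.conj y₀)
      refine ⟨y₀, 1, 1, by decide, by decide, b, a * b, hb, mul_ne_zero (fun e => hw.1.1 (by rw [e, zero_smul])) hb, he, ?_⟩
      rw [CfsgLib.PSUAut.act_smul, he, smul_smul]
    · simp only [not_exists] at hin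
      obtain ⟨P, hP2, hPr, hPu, hPw⟩ := SUFour.exists_plane card_F4' hu.1 hw.1 huw hin
      obtain ⟨hk, hk2, hkF⟩ := L.other_plane c F (a := (1, 0)) (b := (2, 0)) (by decide) (by decide) (by decide)
      obtain ⟨y₀, -, hy₀⟩ := SUFour.plane_conj card_F4' hP2 (L.rho_sq c F hk) hPr hk2
      obtain ⟨w₁, hw₁, he₁⟩ := hkF _ (hy₀ _ hPu)
      obtain ⟨w₂, hw₂, he₂⟩ := hkF _ (hy₀ _ hPw)
      obtain ⟨i, hi, a, hia⟩ := L.exists_point c F hw₁
      obtain ⟨j, hj, b, hjb⟩ := L.exists_point c F hw₂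
      exact ⟨y₀, i, j, hi, hj, a, b, fun e => (Isot.act _ hu.1).1 (by rw [← he₁, hia, e, zero_smul]),
        fun e => (Isot.act _ hw.1).1 (by rw [← he₂, hjb, e, zero_smul]), he₁.symm.trans hia, he₂.symm.trans hjb⟩
  obtain ⟨⟨Yg, hYg⟩, rfl⟩ := L.hom_surj c F y₀
  have hYc : tmk f ⟨Yg, hYg.1⟩ ∈ centralizer ({F.dElt c} : Set (TriQ f)) := by
    rw [mem_centralizer_singleton_iff]
    show tmk f _ * tmk f _ = tmk f _ * tmk f _
    rw [← map_mul, ← map_mul]
    exact congrArg _ (Subtype.ext (mem_centralizer_singleton_iff.1 hYg.2))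
  set Y : ↥(centralizer ({F.dElt c} : Set (TriQ f))) := ⟨_, hYc⟩
  have hY : p Y = L.hom c F ⟨Yg, hYg⟩ := hp ⟨Yg, hYg.1⟩ hYg hYc
  have hA : ∀ (x : ↥(centralizer ({F.dElt c} : Set (TriQ f)))) (u : Fin 4 → F4) (i : Fin 6) (hi : i ≠ 0) (a : F4),
      (x : TriQ f) ∈ link (conjugatesOf (F.dElt c)) (F.dElt c) → IsPt (p x) u → a ≠ 0 →
      act (L.hom c F ⟨Yg, hYg⟩) u = a • cr ⟨T i, L.fix_le c F (L.T_fix c F i)⟩ →
      ∃ d : P24, tmk f ⟨tau f d, F.A_le_triC c (F.tau_mem c d)⟩ = ((Y * x * Y⁻¹ : ↥(centralizer ({F.dElt c} : Set (TriQ f)))) : TriQ f) := by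
    intro x u i hi a ⟨h1, h2, h3⟩ hu ha e
    have hl : ((Y * x * Y⁻¹ : ↥(centralizer ({F.dElt c} : Set (TriQ f)))) : TriQ f) ∈ link (conjugatesOf (F.dElt c)) (F.dElt c) := by
      refine ⟨IsConj.trans h1 (isConj_iff.2 ⟨(Y : TriQ f), rfl⟩), fun e => h2 ?_,
        (mem_centralizer_singleton_iff.1 (Y * x * Y⁻¹).2).symm⟩
      have hXd : (Y : TriQ f)⁻¹ * F.dElt c * (Y : TriQ f) = F.dElt c := by
        rw [mul_assoc, ← mem_centralizer_singleton_iff.1 Y.2, inv_mul_cancel_left]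
      refine Eq.trans ?_ ((congrArg (fun w => (Y : TriQ f)⁻¹ * w * (Y : TriQ f)) e).trans hXd)
      simp [mul_assoc]
    have h4 := hu.conj (L.hom c F ⟨Yg, hYg⟩)
    rw [e] at h4
    obtain ⟨d, -, hd⟩ := L.over_A c F hp (x := Y * x * Y⁻¹) hl hi (by
      rw [map_mul, map_mul, map_inv, hY]
      exact h4.unique card_F4' ((L.kT_pt c F hi).smul card_F4' ha))
    exact ⟨d, hd⟩
  obtain ⟨d₁, hd₁⟩ := hA x u i hi a hx hu ha e1
  obtain ⟨d₂, hd₂⟩ := hA y w j hj b hy hw hb e2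
  have hcomm : Commute ((Y * x * Y⁻¹ : ↥(centralizer ({F.dElt c} : Set (TriQ f)))) : TriQ f) ((Y * y * Y⁻¹ : ↥(centralizer ({F.dElt c} : Set (TriQ f)))) : TriQ f) := by
    rw [← hd₁, ← hd₂]
    show tmk f _ * tmk f _ = tmk f _ * tmk f _
    rw [← map_mul, ← map_mul]
    exact congrArg _ (Subtype.ext (c.comm (F.tau_mem c _) (F.tau_mem c _)))
  simpa [mul_assoc] using hcomm.map (MulAut.conj (Y : TriQ f)⁻¹).toMonoidHom

theorem pt {x : ↥(centralizer ({F.dElt c} : Set (TriQ f)))}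
    (hx : (x : TriQ f) ∈ link (conjugatesOf (F.dElt c)) (F.dElt c)) : ∃ w, IsPt (p x) w := by
  obtain ⟨u, hu, -, -, -, h, hh', d, hd, -, he⟩ := L.link_im c F hp hx
  refine ⟨_, (?_ : IsPt _ (act (L.hom c F ⟨h, hh'⟩)⁻¹ (cr ⟨T d.1, L.fix_le c F (L.T_fix c F d.1)⟩)))⟩
  have := (L.kT_pt c F hd).conj (L.hom c F ⟨h, hh'⟩)⁻¹
  rwa [← he, show (L.hom c F ⟨h, hh'⟩)⁻¹ * (L.hom c F ⟨h, hh'⟩ * p x * (L.hom c F ⟨h, hh'⟩)⁻¹) *
    (L.hom c F ⟨h, hh'⟩)⁻¹⁻¹ = p x by group] at this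

theorem faithful {g : TriQ f} (hgd : Commute g (F.dElt c))
    (hg : ∀ x ∈ link (conjugatesOf (F.dElt c)) (F.dElt c), Commute g x) : g = 1 ∨ g = F.dElt c := by
  classical
  obtain ⟨y, rfl⟩ := QuotientGroup.mk'_surjective _ g
  have hy := L.commute_lift c F hgd
  have hyc : tmk f y ∈ centralizer ({F.dElt c} : Set (TriQ f)) := mem_centralizer_singleton_iff.2 hgd.eq
  -- the image commutes with every transvection
  have hone : p ⟨_, hyc⟩ = 1 := by
    have hcen : p ⟨_, hyc⟩ ∈ Subgroup.center ↥(Cfsg.SU 4 F4 2) := by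
      rw [← Subgroup.centralizer_univ, ← Subgroup.coe_top, ← CfsgLib.U6Central.closure_pts card_F4',
        Subgroup.centralizer_closure, Subgroup.mem_centralizer_iff]
      rintro t ⟨w, hw⟩
      have h4 := L.lifts c F hp t w hw
      obtain ⟨x, hx, rfl⟩ := (Set.ncard_pos (Set.toFinite _)).1 (by rw [h4]; norm_num)
      rw [← map_mul, ← map_mul]
      exact congrArg p (Subtype.ext (hg _ hx).eq.symm)
    rwa [center_SU4, Subgroup.mem_bot] at hcen
  obtain ⟨u, hu⟩ := (L.hom_eq_one c F).1 ((hp y hy hyc).symm.trans hone)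
  have huW : π u ∈ Wsp q n v := (L.val_mem c F).1 (hu ▸ y.2)
  -- its vector is fixed by every transvection
  have hperp : ∀ t : ↥(Cfsg.SU 4 F4 2), (∃ w, IsPt t w) → act t (cr ⟨π u, huW⟩) = cr ⟨π u, huW⟩ := by
    rintro t ⟨w, hw⟩
    have h4 := L.lifts c F hp t w hw
    obtain ⟨x, hx, rfl⟩ := (Set.ncard_pos (Set.toFinite _)).1 (by rw [h4]; norm_num)
    obtain ⟨y', hy', hxy, hpx, ⟨g', hg', hyg⟩, -⟩ := L.link_im c F hp hx
    have hcm := hg _ hx
    rw [← hxy] at hcm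
    have e0 : tmk f (y * y') = tmk f (y' * y) := by rw [map_mul, map_mul]; exact hcm.eq
    obtain ⟨t', ht', e⟩ := (F.tmk_eq c).1 e0
    replace e : (y' : G) * (y : G) = (y : G) * (y' : G) * t' := e
    have ht1 : t' = 1 := by
      refine F.conj_unique c (g := (y : G) * g') (mul_mem y.2 hg') ht' ?_
      have : (y : G) * g' * z * ((y : G) * g')⁻¹ * t' = (y' : G) := by
        rw [show (y : G) * g' * z * ((y : G) * g')⁻¹ = (y : G) * (g' * z * g'⁻¹) * (y : G)⁻¹ by group, ← hyg,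
          mul_assoc, show (y : G)⁻¹ * t' = t' * (y : G)⁻¹ from
            ((show Commute t' (y : G) from mem_centralizer_iff.1 y.2 t' ht').inv_right).eq.symm, ← mul_assoc, ← e,
          mul_inv_cancel_right]
      rw [this, hyg]
      exact isConj_iff.2 ⟨g', rfl⟩
    rw [ht1, mul_one] at e
    obtain ⟨u', hu', e1, e2⟩ := L.hom_act c F ⟨y', hy'⟩ huW
    have e3 : u' = u := Subtype.ext (Subtype.ext (by
      show val u' = val u
      rw [e1, hu, e, mul_inv_cancel_right]))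
    subst e3
    rw [← hpx] at e2
    exact e2.symm
  have hzero : cr ⟨π u, huW⟩ = 0 := by
    by_contra h0
    have hfix : ∀ g : ↥(Cfsg.SU 4 F4 2), act g (cr ⟨π u, huW⟩) = cr ⟨π u, huW⟩ := by
      intro g
      have hgm : g ∈ Subgroup.closure {t : ↥(Cfsg.SU 4 F4 2) | ∃ w, IsPt t w} := by
        rw [CfsgLib.U6Central.closure_pts card_F4']; exact Subgroup.mem_top _
      induction hgm using Subgroup.closure_induction with
      | mem t ht => exact hperp t ht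
      | one => rw [CfsgLib.PSUAut.act_one]
      | mul a b _ _ ha hb => rw [CfsgLib.PSUAut.act_mul, hb, ha]
      | inv a _ ha => nth_rewrite 1 [← ha]; rw [CfsgLib.PSUAut.act_inv_apply]
    -- so it lies in the line and cannot be moved between two points of it
    obtain ⟨hk, hk2, hkF⟩ := L.other_plane c F (a := (1, 0)) (b := (2, 0)) (by decide) (by decide) (by decide)
    have hker : LinearMap.ker (SUFour.dN (ρ ⟨_, L.Ab_fixed c F hk⟩)) =
        LinearMap.range (SUFour.dN (ρ ⟨_, L.Ab_fixed c F hk⟩)) := by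
      refine (Submodule.eq_of_le_of_finrank_le ?_ ?_).symm
      · rintro _ ⟨x, rfl⟩
        exact SUFour.dN_dN card_F4' (L.rho_sq c F hk) x
      · have := LinearMap.finrank_range_add_finrank_ker (SUFour.dN (ρ ⟨_, L.Ab_fixed c F hk⟩))
        rw [Module.finrank_fin_fun, hk2] at this
        omega
    obtain ⟨x, hx, hxe⟩ := hkF _ (hker ▸ (LinearMap.mem_ker.2
      (show SUFour.dN (ρ ⟨_, L.Ab_fixed c F hk⟩) (cr ⟨π u, huW⟩) = 0 by rw [SUFour.dN_apply, hfix, sub_self])))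
    obtain ⟨i, hi, a, hia⟩ := L.exists_point c F hx
    obtain ⟨j, hj, hij⟩ : ∃ j : Fin 6, j ≠ 0 ∧ i ≠ j := (by decide : ∀ i : Fin 6, ∃ j, j ≠ 0 ∧ i ≠ j) i
    have ha : a ≠ 0 := fun e => h0 (by rw [← hxe, hia, e, zero_smul])
    obtain ⟨g, hg'⟩ := (L.kT_pt c F hi).exists_conj card_F4' (L.kT_pt c F hj)
    obtain ⟨b, hb, hbe⟩ := (L.kT_pt c F hj).span_eq card_F4' (hg' ▸ (L.kT_pt c F hi).conj g)
    have := hfix g
    rw [← hxe, hia, CfsgLib.PSUAut.act_smul, hbe] at this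
    exact hij (L.T_line_inj c F hi hj (a := b⁻¹) (by
      rw [← smul_right_injective (Fin 4 → F4) ha this, smul_smul, inv_mul_cancel₀ hb, one_smul]))
  have hl : π u ∈ ln n v := (L.ker _).1 hzero
  obtain ⟨u₁, hu₁, hv₁⟩ := L.rep
  obtain ⟨u₂, hu₂, hl₂, h20, h2v⟩ := L.rep' c F
  have hu12 : val (u₁ * u₂) = f (0, 1) * f (0, 3) := by
    show val u₁ * val u₂ = _
    rw [hu₁, hu₂, mul_assoc, ← mul_assoc (f (0, 2)), F.sq c, one_mul]
  have hfour : π u = 0 ∨ π u = π u₁ ∨ π u = π u₂ ∨ π u = π (u₁ * u₂) := by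
    rw [c.mdl.pi_mul, hv₁]
    have hsum : v + n • v = n • n • v := c.oth.n_sum v
    rcases hl₂ with e | e | e | e
    · exact absurd e h20
    · exact absurd e h2v
    · rw [e, hsum]; exact hl
    · rw [e]
      rcases hl with h | h | h | h
      · exact .inl h
      · exact .inr (.inl h)
      · refine .inr (.inr (.inr ?_))
        rw [h, ← hsum, ← add_assoc, vadd_self, zero_add]
      · exact .inr (.inr (.inl h))
  have fin : ∀ w : ↥Q, val w ∈ tri f → π u = π w → tmk f y = 1 ∨ tmk f y = F.dElt c := by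
    intro w hw e
    rcases c.mdl.pi_eq (x := w) (y := u) e.symm with e' | e'
    · left
      rw [QuotientGroup.mk'_apply, QuotientGroup.eq_one_iff, mem_subgroupOf, ← hu]
      show val u ∈ tri f
      rw [show val u = val w from e']
      exact hw
    · right
      refine ((F.tmk_eq c).2 ⟨val w, hw, ?_⟩).symm
      show (y : G) = z * val w
      rw [← hu, c.comm c.z_mem (F.tri_le c hw)]
      exact e'
  rcases hfour with e | e | e | e
  · exact fin 1 (one_mem _) (e.trans c.mdl.pi_one.symm)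
  · exact fin u₁ (hu₁ ▸ (F.mem_tri c).2 (.inr (.inl rfl))) e
  · exact fin u₂ (hu₂ ▸ (F.mem_tri c).2 (.inr (.inr (.inl rfl)))) e
  · exact fin _ (hu12 ▸ (F.mem_tri c).2 (.inr (.inr (.inr rfl)))) e

end Loc

end CfsgLib.LargeFischer.Thompson
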