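import Cfsg.Agent.Lib.LargeFischer.FourCent.Points

/-!
# The four-group of a triangle and the three kinds of elements of `A` modulo it

A coset of the four-group in `A` has one, three or four conjugates of the central involution.
-/

set_option autoImplicit false
set_option linter.unusedSectionVars false
set_option linter.style.haveILetI false

namespace CfsgLib.LargeFischer.Thompson

open Subgroup QuadraticMap
open CfsgLib.Schur.Tails.UFour (H4)

variable {G : Type*} [Group G] [Finite G] {z : G}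
  {Q : Subgroup (centralizer ({z} : Set G))} [Q.Normal] {V : Type*} [AddCommGroup V] [Module (ZMod 2) V]
  [DistribMulAction ((centralizer ({z} : Set G)) ⧸ Q) V] [Finite V] {q : QuadraticForm (ZMod 2) V} {π : ↥Q → V}
  {n : (centralizer ({z} : Set G)) ⧸ Q} {M : Subgroup ((centralizer ({z} : Set G)) ⧸ Q)} {φ : ↥M →* ↥H4}
  {s : V} {E : Subgroup ((centralizer ({z} : Set G)) ⧸ Q)} {D : AddSubgroup V}
  {A : Subgroup G} {Ab : Subgroup ((centralizer ({z} : Set G)) ⧸ Q)}
  {T : Fin 6 → V} {f : P24 → G}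

/-- The four-group of the triangle. -/
def tri (f : P24 → G) : Subgroup G := closure {f (0, 1) * f (0, 2), f (0, 2) * f (0, 3)}

/-- The centraliser of the four-group. -/
abbrev triC (f : P24 → G) : Subgroup G := centralizer (tri f : Set G)

instance tri_normal (f : P24 → G) : ((tri f).subgroupOf (triC f)).Normal := by
  refine ⟨fun x hx g => ?_⟩
  have h : (g : G) * (x : G) = (x : G) * (g : G) := (mem_centralizer_iff.1 g.2 (x : G) hx).symm
  rwa [show g * x * g⁻¹ = x from Subtype.ext (by
    show (g : G) * (x : G) * (g : G)⁻¹ = (x : G)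
    rw [h, mul_inv_cancel_right])]

/-- The quotient of the centraliser by the four-group. -/
abbrev TriQ (f : P24 → G) : Type _ := ↥(triC f) ⧸ (tri f).subgroupOf (triC f)

/-- The element of the quotient. -/
abbrev tmk (f : P24 → G) : ↥(triC f) →* TriQ f := QuotientGroup.mk' _

/-- The tetrad through the triangle and `d`. -/
def tau (f : P24 → G) (d : P24) : G := f (0, 1) * f (0, 2) * f (0, 3) * f d

/-- The points off the triangle. -/
def Off (d : P24) : Prop := d ≠ (0, 1) ∧ d ≠ (0, 2) ∧ d ≠ (0, 3)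

namespace Frame

variable (c : Ctx Q q π n M φ s E D A Ab) (F : Frame π n Ab s A T f)
include c F

theorem tri_le : tri f ≤ A := by
  rw [tri, closure_le]
  rintro x (rfl | rfl) <;> exact mul_mem (F.mem _) (F.mem _)

theorem mem_tri {x : G} : x ∈ tri f ↔ x = 1 ∨ x = f (0, 1) * f (0, 2) ∨ x = f (0, 2) * f (0, 3) ∨
    x = f (0, 1) * f (0, 3) := by
  have h2 := F.sq c (0, 2)
  have e : f (0, 1) * f (0, 3) = f (0, 1) * f (0, 2) * (f (0, 2) * f (0, 3)) := by
    rw [mul_assoc, ← mul_assoc (f (0, 2)), h2, one_mul]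
  have ha : f (0, 1) * f (0, 2) ∈ tri f := subset_closure (Set.mem_insert _ _)
  have hb : f (0, 2) * f (0, 3) ∈ tri f := subset_closure (Set.mem_insert_of_mem _ rfl)
  constructor
  · intro hx
    refine closure_induction (p := fun x _ => x = 1 ∨ x = f (0, 1) * f (0, 2) ∨ x = f (0, 2) * f (0, 3) ∨
      x = f (0, 1) * f (0, 3)) ?_ (Or.inl rfl) ?_ ?_ hx
    · rintro y (rfl | rfl)
      · exact .inr (.inl rfl)
      · exact .inr (.inr (.inl rfl))
    · intro x y hx hy h1 h2'
      set a := f (0, 1) * f (0, 2) with hadef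
      set b := f (0, 2) * f (0, 3) with hbdef
      have haA : a ∈ A := F.tri_le c ha
      have hbA : b ∈ A := F.tri_le c hb
      have haa := c.sq haA
      have hbb := c.sq hbA
      have hab := c.comm haA hbA
      have k1 : a * (a * b) = b := by rw [← mul_assoc, haa, one_mul]
      have k2 : b * (a * b) = a := by rw [hab, ← mul_assoc, hbb, one_mul]
      have k3 : a * b * a = b := by rw [hab, mul_assoc, haa, mul_one]
      have k4 : a * b * b = a := by rw [mul_assoc, hbb, mul_one]
      have k5 : a * b * (a * b) = 1 := by rw [mul_assoc, k2, haa]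
      rw [e] at h1 h2' ⊢
      rcases h1 with rfl | rfl | rfl | rfl <;> rcases h2' with rfl | rfl | rfl | rfl <;>
        simp [haa, hbb, ← hab, k1, k2, k3, k4, k5]
    · intro x hx h
      rwa [c.inv (F.tri_le c hx)]
  · rintro (rfl | rfl | rfl | rfl)
    exacts [one_mem _, ha, hb, e ▸ mul_mem ha hb]

theorem mem_triC {g : G} : g ∈ triC f ↔ g * (f (0, 1) * f (0, 2)) = f (0, 1) * f (0, 2) * g ∧
    g * (f (0, 2) * f (0, 3)) = f (0, 2) * f (0, 3) * g := by
  constructor
  · intro hg
    exact ⟨(mem_centralizer_iff.1 hg _ ((F.mem_tri c).2 (.inr (.inl rfl)))).symm,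
      (mem_centralizer_iff.1 hg _ ((F.mem_tri c).2 (.inr (.inr (.inl rfl))))).symm⟩
  · rintro ⟨h1, h2⟩
    refine mem_centralizer_iff.2 fun x hx => ?_
    have e : f (0, 1) * f (0, 3) = f (0, 1) * f (0, 2) * (f (0, 2) * f (0, 3)) := by
      rw [mul_assoc, ← mul_assoc (f (0, 2)), F.sq c, one_mul]
    rcases (F.mem_tri c).1 hx with rfl | rfl | rfl | rfl
    · rw [one_mul, mul_one]
    · exact h1.symm
    · exact h2.symm
    · rw [e]; exact ((show Commute g _ from h1).mul_right h2).symm.eq

theorem A_le_triC : A ≤ triC f := fun a ha =>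
  mem_centralizer_iff.2 fun x hx => c.comm (F.tri_le c hx) ha

theorem tau_mem (d : P24) : tau f d ∈ A := mul_mem (mul_mem (mul_mem (F.mem _) (F.mem _)) (F.mem _)) (F.mem d)

theorem tau_zero : tau f (0, 0) = z := by
  rw [← F.cell 0, tau, c.comm (mul_mem (mul_mem (F.mem _) (F.mem _)) (F.mem _)) (F.mem (0, 0))]
  simp [mul_assoc]

theorem tau_conj {d : P24} (hd : Off d) : IsConj z (tau f d) :=
  F.tetrad_conj c (by simp [hd.1.symm, hd.2.1.symm, hd.2.2.symm])

theorem tri_not_conj {t : G} (ht : t ∈ tri f) : ¬ IsConj z t := by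
  rcases (F.mem_tri c).1 ht with rfl | rfl | rfl | rfl
  exacts [c.not_isConj_one, F.not_isConj c (by decide), F.not_isConj c (by decide), F.not_isConj c (by decide)]

/-- The other members of the coset of a tetrad through the triangle. -/
theorem tau_mul {d : P24} (hd : Off d) {t : G} (ht : t ∈ tri f) (ht1 : t ≠ 1) :
    ∃ p : P24, p.1 = 0 ∧ ¬ Off p ∧ d ≠ p ∧ tau f d * t = f p * f d := by
  have cm : ∀ a b, f a * f b = f b * f a := F.commute c
  have sq := F.sq c
  obtain ⟨h1, h2, h3⟩ := hd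
  rcases (F.mem_tri c).1 ht with rfl | rfl | rfl | rfl
  · exact absurd rfl ht1
  · refine ⟨(0, 3), rfl, fun h => h.2.2 rfl, h3, ?_⟩
    calc tau f d * (f (0, 1) * f (0, 2)) = f (0, 1) * f (0, 2) * (f (0, 1) * f (0, 2)) * (f (0, 3) * f d) := by
          rw [tau, mul_assoc _ (f (0, 3)) (f d), mul_assoc, c.comm (mul_mem (F.mem _) (F.mem _))
            (mul_mem (F.mem _) (F.mem _)), ← mul_assoc]
      _ = f (0, 3) * f d := by rw [c.sq (mul_mem (F.mem _) (F.mem _)), one_mul]
  · refine ⟨(0, 1), rfl, fun h => h.1 rfl, h1, ?_⟩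
    calc tau f d * (f (0, 2) * f (0, 3)) = f (0, 1) * (f (0, 2) * f (0, 3) * (f (0, 2) * f (0, 3))) * f d := by
          rw [tau, mul_assoc _ (f d), c.comm (F.mem d) (mul_mem (F.mem _) (F.mem _))]
          simp only [mul_assoc]
      _ = f (0, 1) * f d := by rw [c.sq (mul_mem (F.mem _) (F.mem _)), mul_one]
  · refine ⟨(0, 2), rfl, fun h => h.2.1 rfl, h2, ?_⟩
    have e : f (0, 1) * f (0, 2) * f (0, 3) = f (0, 2) * (f (0, 1) * f (0, 3)) := by
      rw [cm (0, 1) (0, 2), mul_assoc]
    calc tau f d * (f (0, 1) * f (0, 3)) = f (0, 2) * (f (0, 1) * f (0, 3) * (f (0, 1) * f (0, 3))) * f d := by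
          rw [tau, e, mul_assoc _ (f d), c.comm (F.mem d) (mul_mem (F.mem _) (F.mem _))]
          simp only [mul_assoc]
      _ = f (0, 2) * f d := by rw [c.sq (mul_mem (F.mem _) (F.mem _)), mul_one]

theorem tau_mul_not {d : P24} (hd : Off d) {t : G} (ht : t ∈ tri f) (ht1 : t ≠ 1) :
    ¬ IsConj z (tau f d * t) := by
  obtain ⟨p, -, -, hp, e⟩ := F.tau_mul c hd ht ht1
  exact e ▸ F.not_isConj c hp.symm

theorem z_notMem : z ∉ tri f := fun h => F.tri_not_conj c h (IsConj.refl z)

/-- An element of `A` lies in the four-group, in the coset of a tetrad through the triangle, in the coset of a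
pair off the triangle, or all members of its coset are conjugates of the central involution. -/
theorem kinds {x : G} (hx : x ∈ A) : x ∈ tri f ∨ (∃ d, Off d ∧ ∃ t ∈ tri f, x = tau f d * t) ∨
    (∃ a b, Off a ∧ Off b ∧ a ≠ b ∧ ∃ t ∈ tri f, x = f a * f b * t) ∨ ∀ t ∈ tri f, IsConj z (x * t) := by
  classical
  by_cases hall : ∀ t ∈ tri f, IsConj z (x * t)
  · exact .inr (.inr (.inr hall))
  obtain ⟨t, ht, hnc⟩ : ∃ t ∈ tri f, ¬ IsConj z (x * t) := by simpa only [not_forall, exists_prop] using hall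
  have hxt : x * t ∈ A := mul_mem hx (F.tri_le c ht)
  have hx' : x = x * t * t := by rw [mul_assoc, c.sq (F.tri_le c ht), mul_one]
  by_cases h1 : x * t = 1
  · left
    rw [hx', h1, one_mul]
    exact ht
  obtain ⟨a, b, hab, e⟩ := F.cover _ ⟨hxt, h1, hnc⟩
  have key : ∀ a b, ¬ Off a → Off b → f a * f b = x * t → ∃ d, Off d ∧ ∃ t' ∈ tri f, x = tau f d * t' := by
    intro a b ha hb e
    obtain ⟨t', ht', e'⟩ : ∃ t' ∈ tri f, f a * f b = tau f b * t' := by
      simp only [Off, not_and_or, not_not] at ha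
      rcases ha with rfl | rfl | rfl
      · refine ⟨_, (F.mem_tri c).2 (.inr (.inr (.inl rfl))), ?_⟩
        rw [tau, mul_assoc _ (f b), c.comm (F.mem b) (mul_mem (F.mem _) (F.mem _)), ← mul_assoc,
          mul_assoc (f (0, 1)) (f (0, 2)) (f (0, 3)), mul_assoc (f (0, 1)),
          c.sq (mul_mem (F.mem _) (F.mem _)), mul_one]
      · refine ⟨_, (F.mem_tri c).2 (.inr (.inr (.inr rfl))), ?_⟩
        rw [tau, F.commute c (0, 1) (0, 2), mul_assoc _ (f b), c.comm (F.mem b) (mul_mem (F.mem _) (F.mem _)),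
          ← mul_assoc, mul_assoc (f (0, 2)) (f (0, 1)) (f (0, 3)), mul_assoc (f (0, 2)),
          c.sq (mul_mem (F.mem _) (F.mem _)), mul_one]
      · refine ⟨_, (F.mem_tri c).2 (.inr (.inl rfl)), ?_⟩
        rw [tau, mul_assoc _ (f (0, 3)), mul_assoc, c.comm (mul_mem (F.mem _) (F.mem _))
          (mul_mem (F.mem (0, 1)) (F.mem _)), ← mul_assoc, c.sq (mul_mem (F.mem _) (F.mem _)), one_mul]
    exact ⟨b, hb, t' * t, mul_mem ht' ht, by rw [← mul_assoc, ← e', e]; exact hx'⟩
  by_cases ha : Off a <;> by_cases hb : Off b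
  · exact .inr (.inr (.inl ⟨a, b, ha, hb, hab, t, ht, by rw [e]; exact hx'⟩))
  · exact .inr (.inl (key b a hb ha (by rw [F.commute c, e])))
  · exact .inr (.inl (key a b ha hb e))
  · left
    rw [hx', ← e]
    refine mul_mem ?_ ht
    simp only [Off, not_and_or, not_not] at ha hb
    rw [F.mem_tri c]
    rcases ha with rfl | rfl | rfl <;> rcases hb with rfl | rfl | rfl <;>
      first | exact absurd rfl hab | simp [F.commute c (0, 2) (0, 1), F.commute c (0, 3) (0, 1), F.commute c (0, 3) (0, 2)]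

end Frame

end CfsgLib.LargeFischer.Thompson
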